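import Groth.Agent.H23.TopDim
import Groth.Agent.FlatMisc.DimConstr

/-!
# Proper schemes over fields are finite dimensional
-/

universe u

open AlgebraicGeometry CategoryTheory TopologicalSpace

namespace Groth.Agent.ShStabLib

theorem exists_dim_le_proper (k : Type u) [Field k] (X : Scheme.{u}) [X.Over (Spec (CommRingCat.of k))]
    [IsProper (X ↘ Spec (CommRingCat.of k))] :
    ∃ D : ℕ, ∀ S : Set X, topologicalKrullDim ↥S ≤ (D : WithBot ℕ∞) := by
  let f := X ↘ Spec (CommRingCat.of k)
  haveI : LocallyOfFinitePresentation f := by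
    refine (HasRingHomProperty.iff_appLE (P := @LocallyOfFinitePresentation)).2 fun U V e => ?_
    haveI : IsLocallyNoetherian (Spec (CommRingCat.of k)) := inferInstance
    letI := (f.appLE U.1 V.1 e).hom.toAlgebra
    haveI : IsNoetherianRing Γ(Spec (CommRingCat.of k), U.1) := IsLocallyNoetherian.component_noetherian U
    exact RingHom.FinitePresentation.of_finiteType.1 (f.finiteType_appLE U.2 V.2 e)
  let y : ↥(Spec (CommRingCat.of k)) := IsLocalRing.closedPoint k
  obtain ⟨D, hD⟩ := FlatMisc.DimConstr.exists_dim_le f y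
  refine ⟨D, fun S => ?_⟩
  have hS : S ⊆ f ⁻¹' {y} := fun x _ => Subsingleton.elim (α := PrimeSpectrum k) _ _
  refine (H23.TopDim.dim_le_dim_of_subset hS).trans (le_trans ?_ hD)
  exact ((f.fiberHomeo y).symm.isInducing).topologicalKrullDim_le

end Groth.Agent.ShStabLib
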