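import Groth.Agent.ShStabLib.Conv
import Groth.Agent.ShStabLib.DimFinite

/-!
# Consequences for the notions of the prelude
-/

set_option linter.style.haveILetI false
set_option linter.unusedSectionVars false
set_option backward.isDefEq.respectTransparency false
set_option backward.isDefEq.respectTransparency.types false

universe u

open CategoryTheory CategoryTheory.Limits AlgebraicGeometry StabCat

noncomputable section

namespace Groth.Agent.ShStabLib

open Groth.Agent Groth.Agent.HilbPoly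

variable {X : Scheme.{u}} {k : Type u} [Field k] [X.Over (Spec (CommRingCat.of k))]
  [IsProper (X ↘ Spec (CommRingCat.of k))] {L : X.Modules} {d : ℕ} {τ : Tr d} {E : X.Modules}

lemma SS.alpha_pos' (hL : CohB1.IsAmple L) {F : X.Modules} (h : SS k L τ F) : 0 < alpha d (hp k L F) :=
  hp_alpha_pos hL h.coh h.pure h.ne

theorem isHNFiltration_iff (hL : CohB1.IsAmple L) (s : LTSeries (Subobject E)) :
    ShStab.IsHNFiltration k X L E d s ↔ IsHN k L (Tr.id d) E s := by
  constructor
  · rintro ⟨hh, hl, hss, hlt⟩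
    have hss' := fun i => (isSemistable_iff_SS hL).1 (hss i)
    exact ⟨hh, hl, hss', fun i j hij => ((Tr.id d).redLT_iff ((hss' j).alpha_pos' hL) ((hss' i).alpha_pos' hL)).1
      (hlt i j hij _ _ (hp_spec hL (hss' i).tame) (hp_spec hL (hss' j).tame))⟩
  · rintro ⟨hh, hl, hss, hlt⟩
    refine ⟨hh, hl, fun i => (isSemistable_iff_SS hL).2 (hss i), fun i j hij p q hp' hq' => ?_⟩
    rw [← hp_eq hL (hss i).tame hp', ← hp_eq hL (hss j).tame hq']
    exact ((Tr.id d).redLT_iff ((hss j).alpha_pos' hL) ((hss i).alpha_pos' hL)).2 (hlt i j hij)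

theorem isMuHN_iff (hd : 1 ≤ d) (hL : CohB1.IsAmple L) (s : LTSeries (Subobject E)) :
    (s.head = ⊥ ∧ s.last = ⊤ ∧
      (∀ i : Fin s.length,
        ShStab.IsPure X (factor s i) d ∧ ShStab.IsMuSemistable k X L (factor s i) d) ∧
      ∀ (i j : Fin s.length), i.val + 1 = j.val →
        ∀ (p q : Polynomial ℚ), ShStab.IsHilbPoly k X L (factor s i) p →
          ShStab.IsHilbPoly k X L (factor s j) q → hatSlope d q < hatSlope d p) ↔
      IsHN k L (Tr.top d 1) E s := by
  have key : ∀ {P Q : Polynomial ℚ}, 0 < alpha d P → 0 < alpha d Q →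
      (hatSlope d Q < hatSlope d P ↔ (Tr.top d 1).ν Q < (Tr.top d 1).ν P) := fun hP hQ => by
    rw [← not_le, ← not_le, ← (Tr.top d 1).redLE_iff hP hQ]
    exact not_congr (redLE_top_one hd hP hQ).symm
  constructor
  · rintro ⟨hh, hl, hss, hlt⟩
    have hss' := fun i => (isMuSemistable_iff_SS hd hL).1 (hss i)
    exact ⟨hh, hl, hss', fun i j hij => (key ((hss' i).alpha_pos' hL) ((hss' j).alpha_pos' hL)).1
      (hlt i j hij _ _ (hp_spec hL (hss' i).tame) (hp_spec hL (hss' j).tame))⟩
  · rintro ⟨hh, hl, hss, hlt⟩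
    refine ⟨hh, hl, fun i => (isMuSemistable_iff_SS hd hL).2 (hss i), fun i j hij p q hp' hq' => ?_⟩
    rw [← hp_eq hL (hss i).tame hp', ← hp_eq hL (hss j).tame hq']
    exact (key ((hss i).alpha_pos' hL) ((hss j).alpha_pos' hL)).2 (hlt i j hij)

theorem hom_eq_zero_of_min_gt_max (hL : CohB1.IsAmple L) {F G : X.Modules} (hG : Coh.IsCoh G)
    (hGp : ShStab.IsPure X G d) {s : LTSeries (Subobject F)} (hs : IsHN k L (Tr.id d) F s)
    {t : LTSeries (Subobject G)} (ht : IsHN k L (Tr.id d) G t) (i : Fin s.length) (hi : i.val + 1 = s.length)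
    (j : Fin t.length) (hj : j.val = 0) {pmin pmax : Polynomial ℚ}
    (hpmin : ShStab.IsHilbPoly k X L (factor s i) pmin) (hpmax : ShStab.IsHilbPoly k X L (factor t j) pmax)
    (hlt : RedLT d pmax pmin) (φ : F ⟶ G) : φ = 0 := by
  by_contra hφ
  obtain ⟨i', ψ, -, hψ⟩ := exists_factor_hom hs.head hs.last hφ
  have hψ' : ψ ≫ cokernel.π (t ⟨0, Nat.succ_pos _⟩).arrow ≠ 0 := fun h => hψ <| by
    have h0 : (t ⟨0, Nat.succ_pos _⟩).arrow = 0 := by
      rw [show t ⟨0, Nat.succ_pos _⟩ = ⊥ from ht.head, Subobject.bot_arrow]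
    haveI : IsIso (cokernel.π (t ⟨0, Nat.succ_pos _⟩).arrow) := by
      haveI : Mono (cokernel.π (t ⟨0, Nat.succ_pos _⟩).arrow) := Preadditive.mono_of_cancel_zero _ fun {A} g hg => by
        rw [← Abelian.monoLift_comp (t ⟨0, Nat.succ_pos _⟩).arrow g hg]
        exact (congrArg (_ ≫ ·) h0).trans comp_zero
      exact isIso_of_mono_of_epi _
    rwa [← cancel_mono (cokernel.π (t ⟨0, Nat.succ_pos _⟩).arrow), zero_comp]
  obtain ⟨j', -, hle⟩ := (ht.tower hL hG hGp ⟨0, Nat.succ_pos _⟩).2.2 _ _ (hs.ss i') hψ'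
  rw [← hp_eq hL (ht.ss j).tame hpmax, ← hp_eq hL (hs.ss i).tame hpmin] at hlt
  have h1 := ((Tr.id d).redLT_iff ((ht.ss j).alpha_pos' hL) ((hs.ss i).alpha_pos' hL)).1 hlt
  have h2 := hs.anti_le i' i (by omega)
  have h3 := ht.anti_le j j' (by omega)
  exact (h2.trans (hle.trans h3)).not_gt h1

theorem isPure_of_isSS (hL : CohB1.IsAmple L) (hE : Coh.IsCoh E)
    (hdim : topologicalKrullDim (CohB1.support E) = (d : WithBot ℕ∞))
    (h : IsSS Coh.IsCoh (ShStab.IsHilbPoly k X L) d E) : ShStab.IsPure X E d := by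
  intro F ι hι hFc hF0
  haveI := hι
  have hTE : Tame d E := ⟨hE, hdim.le⟩
  have hTF := hTE.of_mono hFc ι
  refine le_antisymm hTF.dim (not_lt.1 fun hlt => ?_)
  have hi : ¬ IsIso ι := fun hi => by
    haveI := hi
    refine hlt.not_ge (hdim.ge.trans (H23.TopDim.dim_le_dim_of_subset (QCoh.mem_support_of_mono hE.1 hFc.1 (inv ι))))
  obtain ⟨N, hN⟩ := h F ι hι hFc hF0 hi _ _ (hp_spec (k := k) hL hTF) (hp_spec (k := k) hL hTE)
  obtain ⟨N', hN'⟩ := hilb_eventually_pos (k := k) hL hFc hF0 hTF.dim (hp_spec (k := k) hL hTF)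
  have h1 := hN _ (le_max_left N N')
  have h2 := hN' _ (le_max_right N N')
  simp only [Polynomial.eval_smul, smul_eq_mul, hp_alpha_eq_zero (k := k) hL hFc hlt, zero_mul] at h1
  have h3 : 0 < alpha d (hp k L E) := HilbPoly.alpha_pos hL hE hdim (hp_spec hL hTE)
  exact absurd h1 (not_le.2 (mul_pos h3 h2))

theorem polyLE_and_alpha_eq (hL : CohB1.IsAmple L) (d : ℕ) {E E' : X.Modules} (hE : Coh.IsCoh E)
    (hE' : Coh.IsCoh E') (ι : E ⟶ E') [Mono ι] {pE pE' : Polynomial ℚ}
    (hpE : ShStab.IsHilbPoly k X L E pE) (hpE' : ShStab.IsHilbPoly k X L E' pE') :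
    PolyLE pE pE' ∧ (topologicalKrullDim (CohB1.support (cokernel ι)) < (d : WithBot ℕ∞) →
      alpha d pE = alpha d pE') := by
  obtain ⟨D, hD⟩ : ∃ D : ℕ, topologicalKrullDim ↥(CohB1.support E') ≤ (D : WithBot ℕ∞) :=
    (exists_dim_le_proper k X).imp fun D h => h _
  obtain ⟨hC, hdC, hpC⟩ := cokernel_data (k := k) hL hE hE' hD ι hpE hpE'
  constructor
  · obtain ⟨N, hN⟩ := hilb_nonneg hL hC hdC hpC
    exact ⟨N, fun m hm => by
      have := hN m hm; simp only [Polynomial.eval_zero, Polynomial.eval_sub] at this; linarith⟩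
  · intro hlt
    have h := hp_alpha_eq_zero (k := k) hL hC hlt
    rw [hp_eq hL ⟨hC, hlt.le⟩ hpC] at h
    simp only [alpha, Polynomial.coeff_sub] at h ⊢
    linarith

/-- The minimal destabilising quotient. -/
theorem exists_iso_last_factor (hL : CohB1.IsAmple L) (ℓ : ℕ) (hE : Coh.IsCoh E) (hp' : ShStab.IsPure X E d)
    (s : LTSeries (Subobject E))
    (hs : IsHNWith (fun G => ShStab.IsEllSemistable k X L G d ℓ)
      (fun G P => ∃ Q : Polynomial ℚ, ShStab.IsHilbPoly k X L G Q ∧ P = topPart ℓ d Q) d E s)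
    {G : X.Modules} (q : E ⟶ G) [Epi q] (hG : Coh.IsCoh G) (hG0 : ¬ IsZero G) (hGp : ShStab.IsPure X G d)
    {pF pG : Polynomial ℚ} (hpF : ShStab.IsHilbPoly k X L (cokernel s.eraseLast.last.arrow) pF)
    (hpG : ShStab.IsHilbPoly k X L G pG) (hα : alpha d pF = alpha d pG)
    (hred : RedEq d (topPart ℓ d pF) (topPart ℓ d pG)) :
    ∃ φ : (cokernel s.eraseLast.last.arrow) ≅ G, cokernel.π s.eraseLast.last.arrow ≫ φ.hom = q := by
  obtain ⟨hh, hl, hss0, hlt0⟩ := hs
  have hss := fun i => (isEllSemistable_iff_SS hL ℓ).1 (hss0 i)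
  have hs : IsHN k L (Tr.top d ℓ) E s := ⟨hh, hl, hss, fun i j hij =>
    ((Tr.top d ℓ).redLT_iff ((hss j).alpha_pos' hL) ((hss i).alpha_pos' hL)).1
      (hlt0 i j hij _ _ ⟨_, hp_spec hL (hss i).tame, rfl⟩ ⟨_, hp_spec hL (hss j).tame, rfl⟩)⟩
  have hq0 : q ≠ 0 := fun h => hG0 (IsZero.of_epi_eq_zero q h)
  have hlen : 0 < s.length := by
    obtain ⟨i, -⟩ := exists_factor_hom hs.head hs.last hq0
    exact lt_of_le_of_lt (Nat.zero_le _) i.2
  let n : Fin s.length := ⟨s.length - 1, by omega⟩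
  have hS : s.eraseLast.last = s n.castSucc := by
    rw [RelSeries.last_eraseLast]
    rfl
  have hTE := tame_of_pure hp' hE
  have htop : s n.succ = ⊤ := by
    rw [show n.succ = Fin.last s.length from Fin.ext (by simp [n]; omega)]
    exact hs.last
  -- the last factor is the quotient
  haveI : IsIso (subquotι (s.step n).le) := by
    haveI : Epi (subquotι (s.step n).le) :=
      (shortExact_quot (s.step n).le).exact.epi_f ((isZero_quot_top htop).eq_of_tgt _ _)
    exact isIso_of_mono_of_epi _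
  let eF : factor s n ≅ cokernel s.eraseLast.last.arrow :=
    asIso (subquotι (s.step n).le) ≪≫ eqToIso (by rw [hS])
  have hFss : SS k L (Tr.top d ℓ) (cokernel s.eraseLast.last.arrow) := (hss n).of_iso hL eF
  have hslF : sl k L (Tr.top d ℓ) (cokernel s.eraseLast.last.arrow) = sl k L (Tr.top d ℓ) (factor s n) :=
    sl_iso hL (hss n).tame eF
  have hTG := tame_of_pure hGp hG
  have hslG : sl k L (Tr.top d ℓ) G = sl k L (Tr.top d ℓ) (factor s n) := by
    rw [← hslF, sl, sl, hp_eq hL hFss.tame hpF, hp_eq hL hTG hpG]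
    refine (((Tr.top d ℓ).redEq_iff ?_ ?_).1 hred).symm
    · rw [← hp_eq hL hFss.tame hpF]; exact hFss.alpha_pos' hL
    · rw [← hp_eq hL hTG hpG]; exact hp_alpha_pos hL hG hGp hG0
  obtain ⟨t, ht⟩ := exists_isHN (k := k) (τ := Tr.top d ℓ) hL hG hGp
  -- every quotient is at least the last factor
  have hGss : SS k L (Tr.top d ℓ) G := by
    have hmlen : 0 < t.length := by
      obtain ⟨i, -⟩ := exists_factor_hom ht.head ht.last (φ := 𝟙 G) (fun h => hG0 ((IsZero.iff_id_eq_zero G).2 h))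
      exact lt_of_le_of_lt (Nat.zero_le _) i.2
    let m : Fin t.length := ⟨t.length - 1, by omega⟩
    have htop' : t m.succ = ⊤ := by
      rw [show m.succ = Fin.last t.length from Fin.ext (by simp [m]; omega)]
      exact ht.last
    haveI : IsIso (subquotι (t.step m).le) := by
      haveI : Epi (subquotι (t.step m).le) :=
        (shortExact_quot (t.step m).le).exact.epi_f ((isZero_quot_top htop').eq_of_tgt _ _)
      exact isIso_of_mono_of_epi _
    let e := (asIso (subquotι (t.step m).le)).symm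
    have hne : q ≫ cokernel.π (t m.castSucc).arrow ≫ e.hom ≠ 0 := fun h => (ht.ss m).ne <| by
      haveI : Epi (q ≫ cokernel.π (t m.castSucc).arrow ≫ e.hom) := inferInstance
      exact IsZero.of_epi_eq_zero _ h
    obtain ⟨i, ψ, -, hψ⟩ := exists_factor_hom hs.head hs.last hne
    have h1 : sl k L (Tr.top d ℓ) (factor s n) ≤ sl k L (Tr.top d ℓ) (factor t m) :=
      (hs.anti_le i n (by simp only [n]; omega)).trans ((hs.ss i).hom_le hL (ht.ss m) hψ)
    obtain ⟨h2, h3⟩ := ht.last_le hL hG hGp m (by simp [m]; omega)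
    rw [← hslG] at h1
    exact h3 (le_antisymm h2 h1)
  have hzero : (s n.castSucc).arrow ≫ q = 0 := by
    have : ∀ i : Fin (s.length + 1), i.val ≤ n.val → (s i).arrow ≫ q = 0 := by
      intro i
      induction i using Fin.induction with
      | zero =>
        intro _
        rw [show s 0 = ⊥ from hs.head, Subobject.bot_arrow, zero_comp]
      | succ i ih =>
        intro hi
        have h0 : Subobject.ofLE (s i.castSucc) (s i.succ) (s.step i).le ≫ (s i.succ).arrow ≫ q = 0 := by
          rw [Subobject.ofLE_arrow_assoc]; exact ih (le_trans (Nat.le_succ _) hi)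
        rw [← cokernel.π_desc _ _ h0]
        by_contra hne
        have hne' : cokernel.desc _ _ h0 ≠ 0 := fun h => hne (by rw [h, comp_zero])
        have := (hs.ss i).hom_le hL hGss hne'
        rw [hslG] at this
        exact this.not_gt (hs.anti i n hi)
    exact this n.castSucc le_rfl
  let φ : cokernel s.eraseLast.last.arrow ⟶ G := cokernel.desc _ q (by
    have : eqToHom (by rw [hS]) ≫ (s n.castSucc).arrow = s.eraseLast.last.arrow := by
      generalize s.eraseLast.last = S at hS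
      subst hS
      simp
    rw [← this, Category.assoc, hzero, comp_zero])
  haveI : Epi φ := epi_of_epi_fac (cokernel.π_desc _ _ _)
  haveI : IsIso φ := by
    obtain ⟨hK, hdK, hpK⟩ := kernel_data (k := k) hL hFss.coh hG hFss.tame.dim φ hpF hpG
    have hK0 : IsZero (kernel φ) := by
      by_contra hK0
      have := hp_alpha_pos (k := k) hL hK (isPure_mono hFss.pure (kernel.ι φ)) hK0
      rw [hp_eq hL ⟨hK, hdK⟩ hpK] at this
      simp only [alpha, Polynomial.coeff_sub] at this hα
      linarith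
    haveI : Mono φ := Preadditive.mono_of_kernel_zero (hK0.eq_of_src _ _)
    exact isIso_of_mono_of_epi φ
  exact ⟨asIso φ, cokernel.π_desc _ _ _⟩

end Groth.Agent.ShStabLib
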