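import Groth.Agent.ShStabLib.HN

/-!
# The notions of semistability of the prelude as `SS`
-/

set_option linter.style.haveILetI false
set_option linter.unusedSectionVars false
set_option backward.isDefEq.respectTransparency false
set_option backward.isDefEq.respectTransparency.types false

universe u

open CategoryTheory CategoryTheory.Limits AlgebraicGeometry StabCat

noncomputable section

namespace Groth.Agent.ShStabLib

open Groth.Agent Groth.Agent.HilbPoly

variable {X : Scheme.{u}} {k : Type u} [Field k] [X.Over (Spec (CommRingCat.of k))]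
  [IsProper (X ↘ Spec (CommRingCat.of k))] {L : X.Modules} {d : ℕ} {τ : Tr d} {E : X.Modules}

/-- Only submodules of smaller multiplicity need testing. -/
lemma SS.of_lt (hL : CohB1.IsAmple L) (hE : Coh.IsCoh E) (h0 : ¬ IsZero E) (hp' : ShStab.IsPure X E d)
    (h : ∀ (G : X.Modules) (κ : G ⟶ E), Mono κ → Coh.IsCoh G → ¬ IsZero G →
      alpha d (hp k L G) < alpha d (hp k L E) → sl k L τ G ≤ sl k L τ E) : SS k L τ E := by
  refine ⟨hE, h0, hp', fun G κ hκ hGc hG0 => ?_⟩
  haveI := hκ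
  have hTE := tame_of_pure hp' hE
  obtain ⟨hC, hdC, hpC⟩ := cokernel_data (k := k) hL hGc hE hTE.dim κ
    (hp_spec hL (hTE.of_mono hGc κ)) (hp_spec hL hTE)
  have h2 := alpha_nonneg hL hC hdC hpC
  rcases lt_or_ge (alpha d (hp k L G)) (alpha d (hp k L E)) with h1 | h1
  · exact h G κ hκ hGc hG0 h1
  · refine τ.le_of_alpha_zero (hp_alpha_pos hL hGc (isPure_mono hp' κ) hG0) (Q := hp k L E - hp k L G) ?_
      (hilb_props hL.1 hC hdC hpC).1 (hilb_nonneg hL hC hdC hpC) (by abel)
    simp only [alpha, Polynomial.coeff_sub] at h1 h2 ⊢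
    linarith

theorem isSemistable_iff_SS (hL : CohB1.IsAmple L) :
    ShStab.IsSemistable k X L E d ↔ SS k L (Tr.id d) E := by
  constructor
  · rintro ⟨hc, h0, hp', hss⟩
    refine ⟨hc, h0, hp', fun G κ hκ hGc hG0 => ?_⟩
    haveI := hκ
    have hTE := tame_of_pure hp' hc
    by_cases hi : IsIso κ
    · exact (sl_iso hL (hTE.of_mono hGc κ) (asIso κ)).ge
    · exact ((Tr.id d).redLE_iff (hp_alpha_pos hL hGc (isPure_mono hp' κ) hG0) (hp_alpha_pos hL hc hp' h0)).1
        (hss G κ hκ hGc hG0 hi _ _ (hp_spec hL (hTE.of_mono hGc κ)) (hp_spec hL hTE))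
  · rintro ⟨hc, h0, hp', hss⟩
    refine ⟨hc, h0, hp', fun G κ hκ hGc hG0 _ pG pE hG hE => ?_⟩
    haveI := hκ
    have hTE := tame_of_pure hp' hc
    rw [← hp_eq hL (hTE.of_mono hGc κ) hG, ← hp_eq hL hTE hE]
    exact ((Tr.id d).redLE_iff (hp_alpha_pos hL hGc (isPure_mono hp' κ) hG0) (hp_alpha_pos hL hc hp' h0)).2
      (hss G κ hκ hGc hG0)

theorem isEllSemistable_iff_SS (hL : CohB1.IsAmple L) (ℓ : ℕ) :
    ShStab.IsEllSemistable k X L E d ℓ ↔ SS k L (Tr.top d ℓ) E := by
  constructor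
  · rintro ⟨hc, h0, hp', hss⟩
    refine SS.of_lt hL hc h0 hp' fun G κ hκ hGc hG0 hlt => ?_
    haveI := hκ
    have hTE := tame_of_pure hp' hc
    have hG := hp_alpha_pos (k := k) hL hGc (isPure_mono hp' κ) hG0
    exact ((Tr.top d ℓ).redLE_iff hG (hp_alpha_pos hL hc hp' h0)).1
      (hss G κ hκ hGc _ _ (hp_spec hL (hTE.of_mono hGc κ)) (hp_spec hL hTE) hG hlt)
  · rintro ⟨hc, h0, hp', hss⟩
    refine ⟨hc, h0, hp', fun G κ hκ hGc pG pE hG hE hpos _ => ?_⟩
    haveI := hκ
    have hTE := tame_of_pure hp' hc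
    have hG0 : ¬ IsZero G := fun hz => by
      rw [isHilbPoly_unique hG (hilb_isZero hz)] at hpos
      simp [alpha] at hpos
    rw [← hp_eq hL (hTE.of_mono hGc κ) hG, ← hp_eq hL hTE hE]
    exact ((Tr.top d ℓ).redLE_iff (hp_alpha_pos hL hGc (isPure_mono hp' κ) hG0) (hp_alpha_pos hL hc hp' h0)).2
      (hss G κ hκ hGc hG0)

lemma redLE_top_one (hd : 1 ≤ d) {P Q : Polynomial ℚ} (hP : 0 < alpha d P) (hQ : 0 < alpha d Q) :
    RedLE d (topPart 1 d P) (topPart 1 d Q) ↔ hatSlope d P ≤ hatSlope d Q := by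
  have e : ∀ (R : Polynomial ℚ) (x : ℚ), (topPart 1 d R).eval x =
      R.coeff (d - 1) * x ^ (d - 1) + R.coeff d * x ^ d := by
    intro R x
    rw [topPart, show Finset.Icc (d - 1) d = {d - 1, d} from by
      ext; simp only [Finset.mem_Icc, Finset.mem_insert, Finset.mem_singleton]; omega,
      Finset.sum_insert (by simp; omega), Finset.sum_singleton]
    simp [Polynomial.eval_monomial]
  rw [RedLE, alpha_topPart, alpha_topPart, hatSlope, hatSlope, div_le_div_iff₀ hP hQ]
  have hf : (0 : ℚ) < ((d - 1).factorial : ℚ) := by exact_mod_cast (d - 1).factorial_pos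
  have hsym : alpha d Q * P.coeff d = alpha d P * Q.coeff d := by simp only [alpha]; ring
  constructor
  · rintro ⟨N, hN⟩
    have h := hN (N + 1) (Nat.le_succ _)
    simp only [Polynomial.eval_smul, smul_eq_mul, e] at h
    have hx : (0 : ℚ) < ((N + 1 : ℕ) : ℚ) ^ (d - 1) := by positivity
    have h' : alpha d Q * P.coeff (d - 1) ≤ alpha d P * Q.coeff (d - 1) := by
      refine le_of_mul_le_mul_right ?_ hx
      linear_combination h - ((N + 1 : ℕ) : ℚ) ^ d * hsym
    have h'' := mul_le_mul_of_nonneg_left h' hf.le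
    show ((d - 1).factorial : ℚ) * P.coeff (d - 1) * alpha d Q ≤
      ((d - 1).factorial : ℚ) * Q.coeff (d - 1) * alpha d P
    linarith
  · intro h
    refine ⟨0, fun m _ => ?_⟩
    simp only [Polynomial.eval_smul, smul_eq_mul, e]
    have h' : alpha d Q * P.coeff (d - 1) ≤ alpha d P * Q.coeff (d - 1) := by
      refine le_of_mul_le_mul_left ?_ hf
      change ((d - 1).factorial : ℚ) * P.coeff (d - 1) * alpha d Q ≤
        ((d - 1).factorial : ℚ) * Q.coeff (d - 1) * alpha d P at h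
      linarith
    have hx : (0 : ℚ) ≤ (m : ℚ) ^ (d - 1) := by positivity
    linear_combination (mul_le_mul_of_nonneg_right h' hx) + (m : ℚ) ^ d * hsym

theorem isMuSemistable_iff_SS (hd : 1 ≤ d) (hL : CohB1.IsAmple L) :
    (ShStab.IsPure X E d ∧ ShStab.IsMuSemistable k X L E d) ↔ SS k L (Tr.top d 1) E := by
  rw [← isEllSemistable_iff_SS hL]
  constructor
  · rintro ⟨hp', hc, h0, -, -, hμ⟩
    refine ⟨hc, h0, hp', fun G κ hκ hGc pG pE hG hE hpos hlt => ?_⟩
    exact (redLE_top_one hd hpos (hpos.trans hlt)).2 (hμ G κ hκ hGc pG pE hG hE hpos hlt)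
  · rintro ⟨hc, h0, hp', hss⟩
    refine ⟨hp', hc, h0, dim_of_isPure hp' hc h0, fun G κ hκ hGc he => ?_, fun G κ hκ hGc pG pE hG hE hpos hlt =>
      (redLE_top_one hd hpos (hpos.trans hlt)).1 (hss G κ hκ hGc pG pE hG hE hpos hlt)⟩
    by_cases hG0 : IsZero G
    · rw [QCoh.support_eq_empty_of_isZero hG0 hGc.1] at he
      haveI : IsEmpty (TopologicalSpace.IrreducibleCloseds ↥(∅ : Set X)) :=
        ⟨fun s => s.2.1.ne_empty (Set.eq_empty_of_isEmpty s.1)⟩
      rw [topologicalKrullDim, Order.krullDim_eq_bot_iff.2 ‹_›, WithBot.bot_add] at he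
      exact WithBot.bot_ne_coe he
    · rw [hp' G κ hκ hGc hG0] at he
      have : ((d + 1 : ℕ) : WithBot ℕ∞) = (d : WithBot ℕ∞) := by push_cast; exact he
      exact absurd (by exact_mod_cast this : d + 1 = d) (by omega)

end Groth.Agent.ShStabLib
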