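import Groth.Agent.ShStabLib.Slope
import Groth.Agent.HilbPoly.JHUnique

/-!
# Harder–Narasimhan filtrations for truncated reduced Hilbert polynomials
-/

set_option linter.style.haveILetI false
set_option linter.unusedSectionVars false
set_option backward.isDefEq.respectTransparency false
set_option backward.isDefEq.respectTransparency.types false

universe u

open CategoryTheory CategoryTheory.Limits AlgebraicGeometry StabCat

noncomputable section

namespace Groth.Agent.ShStabLib

open Groth.Agent Groth.Agent.HilbPoly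

section Abelian

variable {C : Type*} [Category C] [Abelian C] {E : C} {S U : Subobject E}

/-- The map of a subquotient into the quotient. -/
def subquotι (h : S ≤ U) : cokernel (Subobject.ofLE S U h) ⟶ cokernel S.arrow :=
  cokernel.desc _ (U.arrow ≫ cokernel.π S.arrow) (by rw [Subobject.ofLE_arrow_assoc, cokernel.condition])

/-- The map between quotients. -/
def quotMap (h : S ≤ U) : cokernel S.arrow ⟶ cokernel U.arrow :=
  cokernel.desc _ (cokernel.π U.arrow)
    (by rw [← Subobject.ofLE_arrow h, Category.assoc, cokernel.condition, comp_zero])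

@[simp, reassoc]
lemma π_subquotι (h : S ≤ U) : cokernel.π (Subobject.ofLE S U h) ≫ subquotι h = U.arrow ≫ cokernel.π S.arrow :=
  cokernel.π_desc _ _ _

@[simp, reassoc]
lemma π_quotMap (h : S ≤ U) : cokernel.π S.arrow ≫ quotMap h = cokernel.π U.arrow := cokernel.π_desc _ _ _

lemma subquotι_quotMap (h : S ≤ U) : subquotι h ≫ quotMap h = 0 := by
  rw [← cancel_epi (cokernel.π (Subobject.ofLE S U h)), π_subquotι_assoc, π_quotMap, cokernel.condition,
    comp_zero]

instance mono_subquotι (h : S ≤ U) : Mono (subquotι h) := by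
  refine Preadditive.mono_of_cancel_zero _ fun {A} g hg => ?_
  obtain ⟨A', e, he, a, ha⟩ := surjective_up_to_refinements_of_epi (cokernel.π (Subobject.ofLE S U h)) g
  have h0 : (a ≫ U.arrow) ≫ cokernel.π S.arrow = 0 := by
    rw [Category.assoc, ← π_subquotι h, ← Category.assoc, ← ha, Category.assoc, hg, comp_zero]
  have h1 : a = Abelian.monoLift S.arrow _ h0 ≫ Subobject.ofLE S U h := by
    rw [← cancel_mono U.arrow, Category.assoc, Subobject.ofLE_arrow, Abelian.monoLift_comp]
  rw [← cancel_epi e, ha, h1, Category.assoc, cokernel.condition, comp_zero, comp_zero]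

instance epi_quotMap (h : S ≤ U) : Epi (quotMap h) := by
  haveI : Epi (cokernel.π S.arrow ≫ quotMap h) := by rw [π_quotMap]; infer_instance
  exact epi_of_epi (cokernel.π S.arrow) _

lemma shortExact_quot (h : S ≤ U) :
    (ShortComplex.mk (subquotι h) (quotMap h) (subquotι_quotMap h)).ShortExact := by
  refine .mk' (ShortComplex.exact_iff_exact_up_to_refinements _ |>.2 fun {A} g hg => ?_) inferInstance inferInstance
  obtain ⟨A', e, he, a, ha⟩ := surjective_up_to_refinements_of_epi (cokernel.π S.arrow) g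
  have h0 : a ≫ cokernel.π U.arrow = 0 := by
    rw [← π_quotMap h, ← Category.assoc, ← ha, Category.assoc]
    exact (congrArg (e ≫ ·) hg).trans comp_zero
  exact ⟨A', e, he, Abelian.monoLift U.arrow a h0 ≫ cokernel.π _, by
    rw [ha, Category.assoc, π_subquotι, Abelian.monoLift_comp_assoc]⟩

lemma isZero_quot_top {U : Subobject E} (hU : U = ⊤) : IsZero (cokernel U.arrow) := by
  subst hU
  haveI : IsIso ((⊤ : Subobject E).arrow) := inferInstance
  exact isZero_cokernel_of_epi _

lemma le_of_comp_quot {W : Subobject E} (h : W.arrow ≫ cokernel.π U.arrow = 0) : W ≤ U :=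
  Subobject.le_of_comm (Abelian.monoLift U.arrow W.arrow h) (Abelian.monoLift_comp _ _ _)

/-- A subobject of the quotient is a subquotient. -/
lemma exists_preimage {S : Subobject E} {W : C} (w : W ⟶ cokernel S.arrow) [Mono w] :
    ∃ (U : Subobject E) (h : S ≤ U) (e : cokernel (Subobject.ofLE S U h) ≅ W) (e' : cokernel U.arrow ≅ cokernel w),
      e.hom ≫ w = subquotι h ∧ cokernel.π U.arrow ≫ e'.hom = cokernel.π S.arrow ≫ cokernel.π w := by
  let π : E ⟶ cokernel w := cokernel.π S.arrow ≫ cokernel.π w
  haveI : Epi π := epi_comp _ _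
  let U := Subobject.mk (kernel.ι π)
  have hU : U.arrow = (Subobject.underlyingIso (kernel.ι π)).hom ≫ kernel.ι π :=
    (Subobject.underlyingIso_hom_comp_eq_mk _).symm
  have hle : S ≤ U :=
    Subobject.le_mk_of_comm (kernel.lift π S.arrow (by simp [π])) (kernel.lift_ι _ _ _)
  have hπ : U.arrow ≫ π = 0 := by rw [hU, Category.assoc, kernel.condition, comp_zero]
  have hex : (ShortComplex.mk U.arrow π hπ).Exact := ShortComplex.exact_iff_exact_up_to_refinements _ |>.2
    fun {A} g hg => ⟨A, 𝟙 A, inferInstance, kernel.lift π g hg ≫ (Subobject.underlyingIso (kernel.ι π)).inv, by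
      refine Eq.trans ?_ (congrArg (_ ≫ ·) hU.symm)
      simp⟩
  let e' : cokernel U.arrow ≅ cokernel w :=
    IsColimit.coconePointUniqueUpToIso (cokernelIsCokernel U.arrow) hex.gIsCokernel
  have he' : cokernel.π U.arrow ≫ e'.hom = π :=
    IsColimit.comp_coconePointUniqueUpToIso_hom (cokernelIsCokernel U.arrow) _ WalkingParallelPair.one
  have hq : quotMap hle ≫ e'.hom = cokernel.π w := by
    rw [← cancel_epi (cokernel.π S.arrow), π_quotMap_assoc, he']
  have hsw : subquotι hle ≫ cokernel.π w = 0 := by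
    rw [← hq, ← Category.assoc, subquotι_quotMap, zero_comp]
  let a : cokernel (Subobject.ofLE S U hle) ⟶ W := Abelian.monoLift w _ hsw
  have ha : a ≫ w = subquotι hle := Abelian.monoLift_comp _ _ _
  let b : W ⟶ cokernel (Subobject.ofLE S U hle) := (shortExact_quot hle).exact.lift w (by
    show w ≫ quotMap hle = 0
    rw [← cancel_mono e'.hom, Category.assoc, hq, cokernel.condition, zero_comp])
  have hb : b ≫ subquotι hle = w := (shortExact_quot hle).exact.lift_f _ _
  refine ⟨U, hle, ⟨a, b, ?_, ?_⟩, e', ha, he'⟩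
  · rw [← cancel_mono (subquotι hle), Category.assoc, hb, ha, Category.id_comp]
  · rw [← cancel_mono w, Category.assoc, ha, hb, Category.id_comp]

/-- Morphisms out of a filtered object. -/
lemma exists_factor_hom {s : LTSeries (Subobject E)} (hh : s.head = ⊥) (hl : s.last = ⊤) {G : C} {φ : E ⟶ G}
    (hφ : φ ≠ 0) : ∃ i : Fin s.length, ∃ ψ : factor s i ⟶ G,
      cokernel.π _ ≫ ψ = (s i.succ).arrow ≫ φ ∧ ψ ≠ 0 := by
  by_contra hn
  push Not at hn
  have : ∀ i, (s i).arrow ≫ φ = 0 := by
    intro i
    induction i using Fin.induction with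
    | zero =>
      rw [show s 0 = ⊥ from hh, Subobject.bot_arrow, zero_comp]
    | succ i ih =>
      have h0 : Subobject.ofLE (s i.castSucc) (s i.succ) (s.step i).le ≫ (s i.succ).arrow ≫ φ = 0 := by
        rw [Subobject.ofLE_arrow_assoc]; exact ih
      have := hn i (cokernel.desc _ _ h0) (cokernel.π_desc _ _ _)
      rw [← cokernel.π_desc _ _ h0]
      exact (congrArg (cokernel.π _ ≫ ·) this).trans comp_zero
  refine hφ ?_
  have h := this (Fin.last s.length)
  rw [show s (Fin.last s.length) = ⊤ from hl] at h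
  rwa [← cancel_epi ((⊤ : Subobject E).arrow), comp_zero]

end Abelian

variable {X : Scheme.{u}} {k : Type u} [Field k] [X.Over (Spec (CommRingCat.of k))]
  [IsProper (X ↘ Spec (CommRingCat.of k))] {L : X.Modules} {d : ℕ} {τ : Tr d} {E : X.Modules}

variable (k L) in
/-- Harder–Narasimhan filtrations. -/
structure IsHN (τ : Tr d) (E : X.Modules) (s : LTSeries (Subobject E)) : Prop where
  head : s.head = ⊥
  last : s.last = ⊤
  ss : ∀ i : Fin s.length, SS k L τ (factor s i)
  lt : ∀ i j : Fin s.length, i.val + 1 = j.val → sl k L τ (factor s j) < sl k L τ (factor s i)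

namespace IsHN

variable {s : LTSeries (Subobject E)}

lemma anti (h : IsHN k L τ E s) : ∀ i j : Fin s.length, i.val < j.val →
    sl k L τ (factor s j) < sl k L τ (factor s i) := by
  intro i j
  obtain ⟨j, hj⟩ := j
  induction j with
  | zero => intro hij; exact absurd hij (Nat.not_lt_zero _)
  | succ j ih =>
    intro hij
    have h1 := h.lt ⟨j, Nat.lt_of_succ_lt hj⟩ ⟨j + 1, hj⟩ rfl
    rcases (Nat.lt_succ_iff.1 hij).lt_or_eq with h2 | h2
    · exact h1.trans (ih _ h2)
    · rwa [show i = ⟨j, Nat.lt_of_succ_lt hj⟩ from Fin.ext h2]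

lemma anti_le (h : IsHN k L τ E s) (i j : Fin s.length) (hij : i.val ≤ j.val) :
    sl k L τ (factor s j) ≤ sl k L τ (factor s i) := by
  rcases hij.lt_or_eq with h1 | h1
  · exact (h.anti i j h1).le
  · rw [Fin.ext h1]

/-- The tower of quotients. -/
lemma tower (hL : CohB1.IsAmple L) (hE : Coh.IsCoh E) (hpE : ShStab.IsPure X E d) (h : IsHN k L τ E s) :
    ∀ i : Fin (s.length + 1), Coh.IsCoh (cokernel (s i).arrow) ∧ ShStab.IsPure X (cokernel (s i).arrow) d ∧
      (∀ (W : X.Modules) (w : W ⟶ cokernel (s i).arrow), SS k L τ W → w ≠ 0 →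
        ∃ j : Fin s.length, i.val ≤ j.val ∧ sl k L τ W ≤ sl k L τ (factor s j)) := by
  haveI : IsNoetherian X := CurveCohLib.isNoetherian_of_proper (k := k)
  have hTE := tame_of_pure hpE hE
  have hsc : ∀ i, Coh.IsCoh ((s i : Subobject E) : X.Modules) := by
    intro i
    induction i using Fin.induction with
    | zero =>
      have hz : IsZero ((s 0 : Subobject E) : X.Modules) := by
        rw [show s 0 = ⊥ from h.head]; exact (isZero_zero _).of_iso Subobject.botCoeIsoZero
      exact isCoh_of_iso (IsZero.iso (isZero_kernel_of_mono (𝟙 E)) hz) (QCoh.isCoh_kernel hE hE (𝟙 E))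
    | succ i ih =>
      have hSE : (ShortComplex.mk (Subobject.ofLE (s i.castSucc) (s i.succ) (s.step i).le) (cokernel.π _)
          (cokernel.condition _)).ShortExact :=
        .mk' (ShortComplex.exact_of_g_is_cokernel _ (cokernelIsCokernel _)) inferInstance inferInstance
      exact mu_extension.isCoh_ext hSE ih (h.ss i).coh (QCoh.isQCoh_X₂ hSE ih.1 (h.ss i).coh.1)
  have hQc : ∀ i, Coh.IsCoh (cokernel (s i).arrow) := fun i => QCoh.isCoh_cokernel (hsc i).1 hE _
  intro i
  induction i using Fin.reverseInduction with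
  | last =>
    have hz := isZero_quot_top h.last
    exact ⟨hQc _, isPure_isZero hz, fun W w _ hw => absurd (hz.eq_of_tgt w 0) hw⟩
  | cast i ih =>
    have hS := shortExact_quot (s.step i).le
    refine ⟨hQc _, isPure_ext hS ((hTE.of_epi (hQc _) (cokernel.π _))) (hQc _) (h.ss i).pure ih.2.1 k,
      fun W w hW hw => ?_⟩
    by_cases h0 : w ≫ quotMap (s.step i).le = 0
    · have hl := hS.exact.lift_f w h0
      refine ⟨i, le_rfl, hW.hom_le hL (h.ss i) (φ := hS.exact.lift w h0) fun he => hw ?_⟩
      rw [← hl, he]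
      exact zero_comp
    · obtain ⟨j, hj, hle⟩ := ih.2.2 W _ hW h0
      exact ⟨j, le_trans (Nat.le_succ _) hj, hle⟩

/-- Submodules of a quotient are dominated by the first factor. -/
lemma sub_le (hL : CohB1.IsAmple L) (hE : Coh.IsCoh E) (hpE : ShStab.IsPure X E d) (h : IsHN k L τ E s)
    (i : Fin s.length) {G : X.Modules} (κ : G ⟶ cokernel (s i.castSucc).arrow) [Mono κ] (hG : Coh.IsCoh G)
    (hG0 : ¬ IsZero G) : sl k L τ G ≤ sl k L τ (factor s i) ∧
      (sl k L τ G = sl k L τ (factor s i) → κ ≫ quotMap (s.step i).le = 0) := by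
  obtain ⟨hQc, hQp, hQ⟩ := h.tower hL hE hpE i.castSucc
  have hGp := isPure_mono hQp κ
  obtain ⟨W, w, hw, hW, -, hmax⟩ := exists_max (k := k) (τ := τ) hL hG hG0 hGp
  haveI := hw
  have hwκ : w ≫ κ ≠ 0 := fun he => hW.ne <| by
    rw [IsZero.iff_id_eq_zero, ← cancel_mono (w ≫ κ), he, comp_zero, comp_zero]
  obtain ⟨j, hj, hle⟩ := hQ W _ hW hwκ
  have hbound : sl k L τ G ≤ sl k L τ W := (hmax G (𝟙 G) inferInstance hG hG0).1
  have hWi : sl k L τ W ≤ sl k L τ (factor s i) := hle.trans (h.anti_le i j hj)
  refine ⟨hbound.trans hWi, fun he => ?_⟩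
  have hGss : SS k L τ G :=
    ⟨hG, hG0, hGp, fun Y y hy hYc hY0 => ((hmax Y y hy hYc hY0).1.trans hWi).trans he.ge⟩
  by_contra hne
  obtain ⟨j', hj', hle'⟩ := (h.tower hL hE hpE i.succ).2.2 G _ hGss hne
  exact (he ▸ hle').not_gt (h.anti i j' hj')

/-- A filtered module is at least its last factor. -/
lemma last_le (hL : CohB1.IsAmple L) (hE : Coh.IsCoh E) (hpE : ShStab.IsPure X E d) (h : IsHN k L τ E s)
    (m : Fin s.length) (hm : m.val + 1 = s.length) :
    sl k L τ (factor s m) ≤ sl k L τ E ∧ (sl k L τ (factor s m) = sl k L τ E → SS k L τ E) := by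
  have htop : s m.succ = ⊤ := by
    rw [show m.succ = Fin.last s.length from Fin.ext (by simpa using hm)]
    exact h.last
  haveI : IsIso (subquotι (s.step m).le) := by
    haveI : Epi (subquotι (s.step m).le) :=
      (shortExact_quot (s.step m).le).exact.epi_f ((isZero_quot_top htop).eq_of_tgt _ _)
    exact isIso_of_mono_of_epi _
  have key : ∀ i : Fin (s.length + 1), i.val < s.length →
      ¬ IsZero (cokernel (s i).arrow) ∧ sl k L τ (factor s m) ≤ sl k L τ (cokernel (s i).arrow) ∧
        (i.val < m.val → sl k L τ (factor s m) < sl k L τ (cokernel (s i).arrow)) := by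
    intro i
    induction i using Fin.reverseInduction with
    | last => intro hi; exact absurd hi (by simp)
    | cast i ih =>
      intro _
      have hS := shortExact_quot (s.step i).le
      have hQ := h.tower hL hE hpE i.castSucc
      have hQ0 : ¬ IsZero (cokernel (s i.castSucc).arrow) := fun hz => (h.ss i).ne <| by
        rw [IsZero.iff_id_eq_zero, ← cancel_mono (subquotι (s.step i).le)]
        exact hz.eq_of_tgt _ _
      by_cases hi : i = m
      · subst hi
        exact ⟨hQ0, (sl_iso hL (h.ss i).tame (asIso (subquotι (s.step i).le))).ge, fun h => absurd h (lt_irrefl _)⟩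
      have him : i.val < m.val := by
        have : i.val ≠ m.val := fun h => hi (Fin.ext h)
        have := i.2
        omega
      obtain ⟨hn0, hle, -⟩ := ih (by simp only [Fin.val_succ]; omega)
      have hQ' := h.tower hL hE hpE i.succ
      have hP := hp_alpha_pos (k := k) hL (h.ss i).coh (h.ss i).pure (h.ss i).ne
      have hQp := hp_alpha_pos (k := k) hL hQ'.1 hQ'.2.1 hn0
      have hsum : hp k L (cokernel (s i.castSucc).arrow) =
          hp k L (factor s i) + hp k L (cokernel (s i.succ).arrow) :=
        hp_add (X := X) (k := k) (L := L) (d := d)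
          (S := ShortComplex.mk (subquotι (s.step i).le) (quotMap (s.step i).le) (subquotι_quotMap (s.step i).le))
          hL hS (h.ss i).coh (tame_of_pure hQ.2.1 hQ.1) hQ'.1
      have hlt : sl k L τ (factor s m) < sl k L τ (cokernel (s i.castSucc).arrow) := by
        rcases lt_or_ge (sl k L τ (cokernel (s i.succ).arrow)) (sl k L τ (factor s i)) with h1 | h1
        · exact hle.trans_lt ((τ.seesaw_lt hP hQp hsum).2.2 h1)
        · exact (h.anti i m him).trans_le ((τ.seesaw hP hQp hsum).1.2 h1)
      exact ⟨hQ0, hlt.le, fun _ => hlt⟩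
  haveI : IsIso (cokernel.π (s 0).arrow) := by
    haveI : Mono (cokernel.π (s 0).arrow) := by
      refine Preadditive.mono_of_cancel_zero _ fun {A} g hg => ?_
      rw [← Abelian.monoLift_comp (s 0).arrow g hg]
      have h0 : (s 0).arrow = 0 := by rw [show s 0 = ⊥ from h.head, Subobject.bot_arrow]
      exact (congrArg (_ ≫ ·) h0).trans comp_zero
    exact isIso_of_mono_of_epi _
  have hsl : sl k L τ (cokernel (s 0).arrow) = sl k L τ E :=
    sl_iso hL (tame_of_pure hpE hE) (asIso (cokernel.π (s 0).arrow))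
  obtain ⟨-, h1, h2⟩ := key 0 (Nat.lt_of_le_of_lt (Nat.zero_le _) m.2)
  rw [← hsl]
  refine ⟨h1, fun he => ?_⟩
  have hm0 : m.castSucc = 0 := Fin.ext (Nat.eq_zero_of_not_pos fun hpos => (h2 hpos).ne he)
  exact (h.ss m).of_iso hL (asIso (subquotι (s.step m).le) ≪≫ eqToIso (by rw [hm0]) ≪≫
    (asIso (cokernel.π (s 0).arrow)).symm)

/-- Uniqueness. -/
theorem unique (hL : CohB1.IsAmple L) (hE : Coh.IsCoh E) (hpE : ShStab.IsPure X E d) {t : LTSeries (Subobject E)}
    (hs : IsHN k L τ E s) (ht : IsHN k L τ E t) : s = t := by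
  have key : ∀ {s t : LTSeries (Subobject E)}, IsHN k L τ E s → IsHN k L τ E t →
      ∀ (i : Fin s.length) (j : Fin t.length), s i.castSucc = t j.castSucc →
        sl k L τ (factor s i) ≤ sl k L τ (factor t j) ∧
          (sl k L τ (factor s i) = sl k L τ (factor t j) → s i.succ ≤ t j.succ) := by
    intro s t hs ht i j heq
    let e : cokernel (s i.castSucc).arrow ⟶ cokernel (t j.castSucc).arrow := quotMap heq.le
    haveI : IsIso e := ⟨quotMap heq.ge,
      by rw [← cancel_epi (cokernel.π _), π_quotMap_assoc, π_quotMap, Category.comp_id],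
      by rw [← cancel_epi (cokernel.π _), π_quotMap_assoc, π_quotMap, Category.comp_id]⟩
    obtain ⟨h1, h2⟩ := ht.sub_le hL hE hpE j (subquotι (s.step i).le ≫ e) (hs.ss i).coh (hs.ss i).ne
    refine ⟨h1, fun h => le_of_comp_quot ?_⟩
    have h3 := congrArg (cokernel.π (Subobject.ofLE _ _ (s.step i).le) ≫ ·) (h2 h)
    simp only [Category.assoc, π_subquotι_assoc, comp_zero, e, π_quotMap_assoc, π_quotMap] at h3
    exact h3
  have hstep : ∀ n (hs' : n ≤ s.length), ∃ ht' : n ≤ t.length,
      s ⟨n, Nat.lt_succ_of_le hs'⟩ = t ⟨n, Nat.lt_succ_of_le ht'⟩ := by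
    intro n
    induction n with
    | zero => exact fun _ => ⟨Nat.zero_le _, hs.head.trans ht.head.symm⟩
    | succ n ih =>
      intro hs'
      obtain ⟨ht', heq⟩ := ih (Nat.le_of_succ_le hs')
      have hlt : n < t.length := by
        refine lt_of_le_of_ne ht' fun he => ?_
        have h1 := s.step ⟨n, hs'⟩
        have h2 : t ⟨n, Nat.lt_succ_of_le ht'⟩ = ⊤ := by subst he; exact ht.last
        exact (h1.trans_le le_top).ne (heq.trans h2)
      obtain ⟨a₁, a₂⟩ := key hs ht ⟨n, hs'⟩ ⟨n, hlt⟩ heq
      obtain ⟨b₁, b₂⟩ := key ht hs ⟨n, hlt⟩ ⟨n, hs'⟩ heq.symm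
      exact ⟨hlt, le_antisymm (a₂ (le_antisymm a₁ b₁)) (b₂ (le_antisymm b₁ a₁))⟩
  obtain ⟨hle, hlast⟩ := hstep s.length le_rfl
  have hlen : s.length = t.length := by
    refine le_antisymm hle (not_lt.1 fun hlt => ?_)
    have h1 := t.step ⟨s.length, hlt⟩
    exact (h1.trans_le le_top).ne (hlast.symm.trans hs.last)
  refine RelSeries.ext hlen (funext fun i => ?_)
  obtain ⟨_, h⟩ := hstep i.val (Nat.le_of_lt_succ i.2)
  exact h

end IsHN

/-- Existence. -/
theorem exists_isHN (hL : CohB1.IsAmple L) (hE : Coh.IsCoh E) (hpE : ShStab.IsPure X E d) :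
    ∃ s : LTSeries (Subobject E), IsHN k L τ E s := by
  classical
  haveI : IsNoetherian X := CurveCohLib.isNoetherian_of_proper (k := k)
  have hTE := tame_of_pure hpE hE
  let OK : Subobject E → Prop := fun S => ∃ s : LTSeries (Subobject E), s.head = S ∧ s.last = ⊤ ∧
    (∀ i : Fin s.length, SS k L τ (factor s i)) ∧
    ∀ i j : Fin s.length, i.val + 1 = j.val → sl k L τ (factor s j) < sl k L τ (factor s i)
  let Good : Subobject E → Prop := fun S =>
    Coh.IsCoh (S : X.Modules) ∧ ShStab.IsPure X (cokernel S.arrow) d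
  have hall : ∀ S, Good S → OK S := by
    by_contra hn
    push Not at hn
    obtain ⟨S, ⟨hS, hbad⟩, hmax⟩ := exists_maximal_coh hE (fun S => Good S ∧ ¬ OK S) (fun _ h => h.1.1) hn
    by_cases hne : S = ⊤
    · exact hbad ⟨RelSeries.singleton _ S, rfl, hne, fun i => i.elim0, fun i => i.elim0⟩
    have hQc : Coh.IsCoh (cokernel S.arrow) := QCoh.isCoh_cokernel hS.1.1 hE _
    have hQ0 : ¬ IsZero (cokernel S.arrow) := fun hz => hne (top_le_iff.1 (le_of_comp_quot (hz.eq_of_tgt _ _)))
    obtain ⟨W, w, hw, hW, hWp, hWmax⟩ := exists_max (k := k) (τ := τ) hL hQc hQ0 hS.2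
    haveI := hw
    obtain ⟨U, hSU, e, e', he, he'⟩ := exists_preimage w
    have hSE : (ShortComplex.mk (Subobject.ofLE S U hSU) (cokernel.π _) (cokernel.condition _)).ShortExact :=
      .mk' (ShortComplex.exact_of_g_is_cokernel _ (cokernelIsCokernel _)) inferInstance inferInstance
    have hfc : Coh.IsCoh (cokernel (Subobject.ofLE S U hSU)) := isCoh_of_iso e.symm hW.coh
    have hUc : Coh.IsCoh (U : X.Modules) :=
      mu_extension.isCoh_ext hSE hS.1 hfc (QCoh.isQCoh_X₂ hSE hS.1.1 hfc.1)
    have hSU' : S < U := lt_of_le_of_ne hSU fun heq => hW.ne <| by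
      subst heq
      haveI : IsIso (Subobject.ofLE S S hSU) := by rw [Subobject.ofLE_refl]; infer_instance
      exact (isZero_cokernel_of_epi _).of_iso e.symm
    have hUok : OK U := by
      by_contra hU'
      exact hSU'.ne (hmax U ⟨⟨hUc, isPure_mono hWp e'.hom⟩, hU'⟩ hSU).symm
    obtain ⟨s, hh, hl, hfac, hanti⟩ := hUok
    let s' : LTSeries (Subobject E) :=
      { length := s.length + 1
        toFun := Fin.cons S s.toFun
        step := fun i => by
          refine Fin.cases ?_ (fun j => ?_) i
          · show S < s.head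
            rw [hh]; exact hSU'
          · exact s.step j }
    subst hh
    have hf0 : ∀ q : Fin s'.length, q.val = 0 → factor s' q = cokernel (Subobject.ofLE S s.head hSU) := by
      intro q hq
      obtain rfl : q = 0 := Fin.ext hq
      rfl
    have hW' : SS k L τ (cokernel (Subobject.ofLE S s.head hSU)) := hW.of_iso hL e.symm
    have hsl' : sl k L τ (cokernel (Subobject.ofLE S s.head hSU)) = sl k L τ W := sl_iso hL hW.tame e.symm
    refine hbad ⟨s', rfl, hl, fun i => ?_, fun i j hij => ?_⟩
    · refine Fin.cases ?_ (fun j => ?_) i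
      · exact hW'
      · exact hfac j
    · obtain ⟨i, hi⟩ := i
      obtain ⟨j, hj⟩ := j
      obtain rfl : i + 1 = j := hij
      rcases i with _ | i
      · -- the second factor has smaller slope than the maximal submodule
        have hpos : 0 < s.length := Nat.lt_of_succ_lt_succ hj
        show sl k L τ (factor s ⟨0, hpos⟩) < sl k L τ (cokernel (Subobject.ofLE S s.head hSU))
        rw [hsl']
        have hlt := s.step ⟨0, hpos⟩
        change s.head < s ⟨1, Nat.succ_lt_succ hpos⟩ at hlt
        set V := s ⟨1, Nat.succ_lt_succ hpos⟩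
        have hf : SS k L τ (cokernel (Subobject.ofLE s.head V hlt.le)) := hfac ⟨0, hpos⟩
        show sl k L τ (cokernel (Subobject.ofLE s.head V hlt.le)) < sl k L τ W
        -- the subquotient `V / S`
        let g : cokernel (Subobject.ofLE S V (hSU.trans hlt.le)) ⟶ cokernel (Subobject.ofLE s.head V hlt.le) :=
          cokernel.desc _ (cokernel.π _) (by
            rw [← Subobject.ofLE_comp_ofLE S s.head V hSU hlt.le, Category.assoc, cokernel.condition, comp_zero])
        haveI : Epi g := epi_of_epi_fac (cokernel.π_desc _ _ _)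
        have hVc : Coh.IsCoh (V : X.Modules) := by
          have hSE' : (ShortComplex.mk (Subobject.ofLE s.head V hlt.le) (cokernel.π _)
              (cokernel.condition _)).ShortExact :=
            .mk' (ShortComplex.exact_of_g_is_cokernel _ (cokernelIsCokernel _)) inferInstance inferInstance
          exact mu_extension.isCoh_ext hSE' hUc hf.coh (QCoh.isQCoh_X₂ hSE' hUc.1 hf.coh.1)
        have hTV := hTE.of_mono hVc V.arrow
        have hMc : Coh.IsCoh (cokernel (Subobject.ofLE S V (hSU.trans hlt.le))) :=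
          QCoh.isCoh_cokernel hS.1.1 hVc _
        have hadd : ∀ (A B : Subobject E) (hAB : A ≤ B), Coh.IsCoh (A : X.Modules) → Coh.IsCoh (B : X.Modules) →
            Coh.IsCoh (cokernel (Subobject.ofLE A B hAB)) →
            hp k L (B : X.Modules) = hp k L (A : X.Modules) + hp k L (cokernel (Subobject.ofLE A B hAB)) :=
          fun A B hAB hA hB hC => hp_add (k := k) hL (S := ShortComplex.mk (Subobject.ofLE A B hAB)
            (cokernel.π _) (cokernel.condition _))
            (.mk' (ShortComplex.exact_of_g_is_cokernel _ (cokernelIsCokernel _)) inferInstance inferInstance)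
            hA (hTE.of_mono hB B.arrow) hC
        have e1 := hadd S V (hSU.trans hlt.le) hS.1 hVc hMc
        have e2 := hadd S s.head hSU hS.1 hUc hfc
        have e3 := hadd s.head V hlt.le hUc hVc hf.coh
        have hsum : hp k L (cokernel (Subobject.ofLE S V (hSU.trans hlt.le))) =
            hp k L (cokernel (Subobject.ofLE S s.head hSU)) +
              hp k L (cokernel (Subobject.ofLE s.head V hlt.le)) := by
          rw [e2, add_assoc] at e3
          exact add_left_cancel (e1.symm.trans e3)
        have hα₁ := hp_alpha_pos (k := k) hL hW'.coh hW'.pure hW'.ne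
        have hα₂ := hp_alpha_pos (k := k) hL hf.coh hf.pure hf.ne
        rw [← hsl']
        refine (τ.seesaw_lt hα₁ hα₂ hsum).1.1 ?_
        show sl k L τ (cokernel (Subobject.ofLE S V _)) < sl k L τ (cokernel (Subobject.ofLE S s.head hSU))
        rw [hsl']
        have hM0 : ¬ IsZero (cokernel (Subobject.ofLE S V (hSU.trans hlt.le))) := fun hz => hf.ne <| by
          rw [IsZero.iff_id_eq_zero, ← cancel_epi g]
          exact hz.eq_of_src _ _
        obtain ⟨h1, h2⟩ := hWmax _ (subquotι (hSU.trans hlt.le)) inferInstance hMc hM0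
        refine lt_of_le_of_ne h1 fun heq => hlt.not_ge (le_of_comp_quot ?_)
        obtain ⟨φ, hφ⟩ := h2 heq
        rw [← π_quotMap hSU, ← π_subquotι_assoc (hSU.trans hlt.le), ← hφ, ← cancel_mono e'.hom]
        have hq : quotMap hSU ≫ e'.hom = cokernel.π w := by
          rw [← cancel_epi (cokernel.π S.arrow), π_quotMap_assoc, he']
        simp only [Category.assoc, hq, cokernel.condition, comp_zero, zero_comp]
      · exact hanti ⟨i, Nat.lt_of_succ_lt (Nat.lt_of_succ_lt_succ hj)⟩ ⟨i + 1, Nat.lt_of_succ_lt_succ hj⟩ rfl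
  have hz : IsZero ((⊥ : Subobject E) : X.Modules) := (isZero_zero _).of_iso Subobject.botCoeIsoZero
  have hbot : Good ⊥ := by
    refine ⟨isCoh_of_iso (IsZero.iso (isZero_kernel_of_mono (𝟙 E)) hz) (QCoh.isCoh_kernel hE hE (𝟙 E)), ?_⟩
    haveI : IsIso (cokernel.π (⊥ : Subobject E).arrow) := by
      haveI : Mono (cokernel.π (⊥ : Subobject E).arrow) := by
        refine Preadditive.mono_of_cancel_zero _ fun {A} g hg => ?_
        rw [← Abelian.monoLift_comp (⊥ : Subobject E).arrow g hg]
        exact (congrArg (_ ≫ ·) Subobject.bot_arrow).trans comp_zero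
      exact isIso_of_mono_of_epi _
    exact isPure_mono hpE (inv (cokernel.π (⊥ : Subobject E).arrow))
  obtain ⟨s, hh, hl, h1, h2⟩ := hall ⊥ hbot
  exact ⟨s, hh, hl, h1, h2⟩

end Groth.Agent.ShStabLib
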