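import Groth.Agent.HilbPoly.Sub

/-!
# The eventual order on rational polynomials and reduced polynomials
-/

set_option linter.unusedSectionVars false

universe u

open Polynomial StabCat

noncomputable section

namespace Groth.Agent.ShStabLib

open Groth.Agent

/-- Rational polynomials with the eventual order. -/
def EP : Type := ℚ[X]

instance : AddCommGroup EP := inferInstanceAs (AddCommGroup ℚ[X])
instance : Module ℚ EP := inferInstanceAs (Module ℚ ℚ[X])

/-- The polynomial underlying an element of `EP`. -/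
def EP.toPoly : EP ≃ₗ[ℚ] ℚ[X] := LinearEquiv.refl ℚ _

lemma polyLE_refl (P : ℚ[X]) : PolyLE P P := ⟨0, fun _ _ => le_rfl⟩

lemma polyLE_trans {P Q R : ℚ[X]} (h₁ : PolyLE P Q) (h₂ : PolyLE Q R) : PolyLE P R := by
  obtain ⟨N₁, h₁⟩ := h₁
  obtain ⟨N₂, h₂⟩ := h₂
  exact ⟨max N₁ N₂, fun m hm =>
    (h₁ m (le_trans (le_max_left _ _) hm)).trans (h₂ m (le_trans (le_max_right _ _) hm))⟩

lemma polyLE_antisymm {P Q : ℚ[X]} (h₁ : PolyLE P Q) (h₂ : PolyLE Q P) : P = Q := by
  obtain ⟨N₁, h₁⟩ := h₁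
  obtain ⟨N₂, h₂⟩ := h₂
  exact HilbPoly.poly_ext (max N₁ N₂) fun m hm =>
    le_antisymm (h₁ m (le_trans (le_max_left _ _) hm)) (h₂ m (le_trans (le_max_right _ _) hm))

lemma polyLE_total (P Q : ℚ[X]) : PolyLE P Q ∨ PolyLE Q P := by
  rcases HilbPoly.eventually_sign (Q - P) with ⟨N, hN⟩ | h | ⟨N, hN⟩
  · exact Or.inl ⟨N, fun m hm => by have := hN m hm; rw [eval_sub] at this; linarith⟩
  · exact Or.inl (sub_eq_zero.1 h ▸ polyLE_refl _)
  · exact Or.inr ⟨N, fun m hm => by have := hN m hm; rw [eval_sub] at this; linarith⟩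

instance : LinearOrder EP where
  le a b := PolyLE (EP.toPoly a) (EP.toPoly b)
  le_refl a := polyLE_refl _
  le_trans _ _ _ := polyLE_trans
  le_antisymm _ _ h₁ h₂ := EP.toPoly.injective (polyLE_antisymm h₁ h₂)
  le_total a b := polyLE_total _ _
  toDecidableLE := Classical.decRel _

lemma EP.le_iff {a b : EP} : a ≤ b ↔ PolyLE (EP.toPoly a) (EP.toPoly b) := Iff.rfl

instance : IsOrderedAddMonoid EP where
  add_le_add_left a b h c := by
    obtain ⟨N, hN⟩ := h
    refine ⟨N, fun m hm => ?_⟩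
    simp only [map_add, eval_add]
    linarith [hN m hm]

lemma EP.smul_le_smul {a b : EP} {c : ℚ} (hc : 0 ≤ c) (h : a ≤ b) : c • a ≤ c • b := by
  obtain ⟨N, hN⟩ := h
  refine ⟨N, fun m hm => ?_⟩
  simp only [map_smul, eval_smul, smul_eq_mul]
  exact mul_le_mul_of_nonneg_left (hN m hm) hc

lemma EP.smul_le_smul_iff {a b : EP} {c : ℚ} (hc : 0 < c) : c • a ≤ c • b ↔ a ≤ b := by
  refine ⟨fun h => ?_, EP.smul_le_smul hc.le⟩
  have := EP.smul_le_smul (inv_nonneg.2 hc.le) h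
  rwa [smul_smul, smul_smul, inv_mul_cancel₀ hc.ne', one_smul, one_smul] at this

lemma EP.smul_lt_smul_iff {a b : EP} {c : ℚ} (hc : 0 < c) : c • a < c • b ↔ a < b := by
  rw [← not_le, ← not_le, EP.smul_le_smul_iff hc]

lemma polyLT_iff {P Q : ℚ[X]} : PolyLT P Q ↔ ¬ PolyLE Q P := by
  constructor
  · rintro ⟨N, hN⟩ ⟨N', hN'⟩
    exact absurd (hN _ (le_max_left N N')) (not_lt.2 (hN' _ (le_max_right N N')))
  · intro h
    rcases HilbPoly.eventually_sign (Q - P) with ⟨N, hN⟩ | he | ⟨N, hN⟩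
    · exact ⟨N, fun m hm => by have := hN m hm; rw [eval_sub] at this; linarith⟩
    · exact absurd (sub_eq_zero.1 he ▸ polyLE_refl _) h
    · exact absurd ⟨N, fun m hm => by have := hN m hm; rw [eval_sub] at this; linarith⟩ h

/-- A truncation of polynomials compatible with multiplicities in dimension `d`. -/
structure Tr (d : ℕ) where
  /-- The linear map. -/
  T : ℚ[X] →ₗ[ℚ] ℚ[X]
  alpha_T : ∀ P, alpha d (T P) = alpha d P
  nonneg : ∀ P, P.natDegree ≤ d → PolyLE 0 P → PolyLE 0 (T P)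

/-- No truncation. -/
def Tr.id (d : ℕ) : Tr d := ⟨LinearMap.id, fun _ => rfl, fun _ _ h => h⟩

variable {d : ℕ}

lemma coeff_topPart (ℓ : ℕ) (P : ℚ[X]) (j : ℕ) :
    (topPart ℓ d P).coeff j = if d - ℓ ≤ j ∧ j ≤ d then P.coeff j else 0 := by
  simp only [topPart, Polynomial.finsetSum_coeff, Polynomial.coeff_monomial, Finset.sum_ite_eq',
    Finset.mem_Icc]

lemma nonneg_topPart (ℓ : ℕ) {P : ℚ[X]} (hd : P.natDegree ≤ d) (h : PolyLE 0 P) :
    PolyLE 0 (topPart ℓ d P) := by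
  by_cases hP : P = 0
  · subst hP
    rw [show topPart ℓ d (0 : ℚ[X]) = 0 from by ext j; simp [coeff_topPart]]
    exact polyLE_refl _
  by_cases he : d - ℓ ≤ P.natDegree
  · have hc : 0 < P.coeff P.natDegree := by
      refine lt_of_le_of_ne (not_lt.1 fun hlt => ?_) fun h0 =>
        hP (Polynomial.leadingCoeff_eq_zero.1 h0.symm)
      obtain ⟨N, hN⟩ := HilbPoly.eventually_pos (P := -P) (d := P.natDegree) (by rw [natDegree_neg])
        (by rw [coeff_neg]; linarith)
      obtain ⟨N', hN'⟩ := h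
      have h1 := hN _ (le_max_left N N')
      have h2 := hN' _ (le_max_right N N')
      rw [eval_neg] at h1
      rw [eval_zero] at h2
      linarith
    obtain ⟨N, hN⟩ := HilbPoly.eventually_pos (P := topPart ℓ d P) (d := P.natDegree)
      (natDegree_le_iff_coeff_eq_zero.2 fun j hj => by
        rw [coeff_topPart]; split_ifs
        · exact coeff_eq_zero_of_natDegree_lt hj
        · rfl)
      (by rw [coeff_topPart, if_pos ⟨he, hd⟩]; exact hc)
    exact ⟨N, fun m hm => by rw [eval_zero]; exact (hN m hm).le⟩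
  · rw [show topPart ℓ d P = 0 from by
      ext j
      rw [coeff_topPart]
      split_ifs with hj
      · rw [coeff_zero]; exact coeff_eq_zero_of_natDegree_lt (by omega)
      · rw [coeff_zero]]
    exact polyLE_refl _

/-- Truncation to the degrees `d - ℓ, …, d`. -/
def Tr.top (d ℓ : ℕ) : Tr d where
  T :=
    { toFun := topPart ℓ d
      map_add' := fun P Q => by ext j; simp only [coeff_add, coeff_topPart]; split_ifs <;> simp
      map_smul' := fun c P => by
        ext j; simp only [coeff_smul, coeff_topPart, RingHom.id_apply]; split_ifs <;> simp }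
  alpha_T P := by
    show alpha d (topPart ℓ d P) = alpha d P
    rw [alpha, alpha, coeff_topPart, if_pos ⟨by omega, le_rfl⟩]
  nonneg _ hd h := nonneg_topPart ℓ hd h

namespace Tr

variable (τ : Tr d) {P Q R : ℚ[X]}

/-- The reduced truncated polynomial. -/
def ν (P : ℚ[X]) : EP := EP.toPoly.symm ((alpha d P)⁻¹ • τ.T P)

/-- The truncated polynomial in `EP`. -/
def raw (P : ℚ[X]) : EP := EP.toPoly.symm (τ.T P)

lemma raw_eq (hP : alpha d P ≠ 0) : τ.raw P = alpha d P • τ.ν P := by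
  rw [ν, map_smul, smul_smul, mul_inv_cancel₀ hP, one_smul]; rfl

lemma raw_add : τ.raw (P + Q) = τ.raw P + τ.raw Q := by simp [raw, map_add]

lemma raw_nonneg (hd : P.natDegree ≤ d) (h : PolyLE 0 P) : 0 ≤ τ.raw P := by
  show PolyLE (EP.toPoly 0) (EP.toPoly (τ.raw P))
  rw [raw, LinearEquiv.apply_symm_apply, map_zero]
  exact τ.nonneg P hd h

lemma redLE_iff (hP : 0 < alpha d P) (hQ : 0 < alpha d Q) :
    RedLE d (τ.T P) (τ.T Q) ↔ τ.ν P ≤ τ.ν Q := by
  rw [← EP.smul_le_smul_iff (mul_pos hP hQ)]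
  show RedLE d _ _ ↔ PolyLE (EP.toPoly _) (EP.toPoly _)
  simp only [ν, map_smul, LinearEquiv.apply_symm_apply, smul_smul]
  rw [show alpha d P * alpha d Q * (alpha d P)⁻¹ = alpha d Q by field_simp,
    show alpha d P * alpha d Q * (alpha d Q)⁻¹ = alpha d P by field_simp]
  rw [RedLE, τ.alpha_T, τ.alpha_T]

lemma redLT_iff (hP : 0 < alpha d P) (hQ : 0 < alpha d Q) :
    RedLT d (τ.T P) (τ.T Q) ↔ τ.ν P < τ.ν Q := by
  rw [← not_le, ← τ.redLE_iff hQ hP, RedLT, polyLT_iff]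
  rfl

lemma redEq_iff (hP : 0 < alpha d P) (hQ : 0 < alpha d Q) :
    RedEq d (τ.T P) (τ.T Q) ↔ τ.ν P = τ.ν Q := by
  rw [le_antisymm_iff, ← τ.redLE_iff hP hQ, ← τ.redLE_iff hQ hP]
  refine ⟨fun h => ?_, fun h => HilbPoly.redEq_of_le_le h.1 h.2⟩
  unfold RedEq at h
  unfold RedLE
  rw [h]
  exact ⟨polyLE_refl _, polyLE_refl _⟩

/-- The seesaw. -/
lemma seesaw (hP : 0 < alpha d P) (hQ : 0 < alpha d Q) (hR : R = P + Q) :
    (τ.ν P ≤ τ.ν R ↔ τ.ν P ≤ τ.ν Q) ∧ (τ.ν R ≤ τ.ν Q ↔ τ.ν P ≤ τ.ν Q) := by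
  have hα : alpha d R = alpha d P + alpha d Q := by simp only [hR, alpha, coeff_add]; ring
  have hRpos : 0 < alpha d R := by linarith
  have e : alpha d R • τ.ν R = alpha d P • τ.ν P + alpha d Q • τ.ν Q := by
    rw [← τ.raw_eq hRpos.ne', ← τ.raw_eq hP.ne', ← τ.raw_eq hQ.ne', hR, τ.raw_add]
  constructor
  · rw [← EP.smul_le_smul_iff hRpos, e, hα, add_smul, add_le_add_iff_left, EP.smul_le_smul_iff hQ]
  · rw [← EP.smul_le_smul_iff hRpos, e, hα, add_smul, add_le_add_iff_right, EP.smul_le_smul_iff hP]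

lemma seesaw_lt (hP : 0 < alpha d P) (hQ : 0 < alpha d Q) (hR : R = P + Q) :
    (τ.ν R < τ.ν P ↔ τ.ν Q < τ.ν P) ∧ (τ.ν Q < τ.ν R ↔ τ.ν Q < τ.ν P) := by
  simp only [← not_le, (τ.seesaw hP hQ hR).1, (τ.seesaw hP hQ hR).2, and_self]

/-- Adding something of multiplicity zero raises the reduced polynomial. -/
lemma le_of_alpha_zero (hP : 0 < alpha d P) (hQ : alpha d Q = 0) (hd : Q.natDegree ≤ d)
    (h0 : PolyLE 0 Q) (hR : R = P + Q) : τ.ν P ≤ τ.ν R := by
  have hα : alpha d R = alpha d P := by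
    simp only [alpha] at hQ ⊢; rw [hR, coeff_add, mul_add, hQ, add_zero]
  rw [← EP.smul_le_smul_iff hP]
  nth_rewrite 2 [← hα]
  rw [← τ.raw_eq hP.ne', ← τ.raw_eq (hα ▸ hP.ne'), hR, τ.raw_add]
  exact le_add_of_nonneg_right (τ.raw_nonneg hd h0)

/-- The computation with a sum and an intersection. -/
lemma sum_inter {U K F G : ℚ[X]} (hU : 0 < alpha d U) (hF : 0 < alpha d F) (hG : 0 < alpha d G)
    (hαU : alpha d F ≤ alpha d U) (hsum : U + K = F + G) (hlt : τ.ν U < τ.ν F) (hle : τ.ν F ≤ τ.ν G) :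
    alpha d K • τ.ν G < τ.raw K := by
  have hα : alpha d U + alpha d K = alpha d F + alpha d G := by
    rw [← HilbPoly.alpha_add, hsum, HilbPoly.alpha_add]
  have e : τ.raw U + τ.raw K = τ.raw F + τ.raw G := by rw [← τ.raw_add, ← τ.raw_add, hsum]
  rw [τ.raw_eq hU.ne', τ.raw_eq hF.ne', τ.raw_eq hG.ne'] at e
  generalize τ.raw K = r at *
  generalize τ.ν U = u at *
  generalize τ.ν F = f at *
  generalize τ.ν G = g at *
  have h1 : alpha d U • u < alpha d U • f := (EP.smul_lt_smul_iff hU).2 hlt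
  have h2 : (alpha d U - alpha d F) • f ≤ (alpha d U - alpha d F) • g :=
    EP.smul_le_smul (sub_nonneg.2 hαU) hle
  have hK : alpha d K = alpha d G - (alpha d U - alpha d F) := by linarith
  have hr : r = alpha d F • f + alpha d G • g - alpha d U • u := eq_sub_of_add_eq' e
  rw [hK, hr, ← sub_pos]
  have h3 : 0 < (alpha d U • f - alpha d U • u) +
      ((alpha d U - alpha d F) • g - (alpha d U - alpha d F) • f) :=
    add_pos_of_pos_of_nonneg (sub_pos.2 h1) (sub_nonneg.2 h2)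
  refine lt_of_lt_of_eq h3 ?_
  simp only [sub_smul]
  abel

end Tr

end Groth.Agent.ShStabLib
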