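import Groth.Agent.ShStabLib.Order
import Groth.Agent.HilbPoly.MaxDestab

/-!
# Semistability for truncated reduced Hilbert polynomials
-/

set_option linter.style.haveILetI false
set_option linter.unusedSectionVars false
set_option backward.isDefEq.respectTransparency false
set_option backward.isDefEq.respectTransparency.types false

universe u

open CategoryTheory CategoryTheory.Limits AlgebraicGeometry Polynomial StabCat

noncomputable section

namespace Groth.Agent.ShStabLib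

open Groth.Agent Groth.Agent.HilbPoly

variable {X : Scheme.{u}} {k : Type u} [Field k] [X.Over (Spec (CommRingCat.of k))]
  [IsProper (X ↘ Spec (CommRingCat.of k))] {L : X.Modules} {d : ℕ} {τ : Tr d}

/-- Coherent with support of dimension at most `d`. -/
structure Tame (d : ℕ) (F : X.Modules) : Prop where
  coh : Coh.IsCoh F
  dim : topologicalKrullDim ↥(CohB1.support F) ≤ (d : WithBot ℕ∞)

variable (k L) in
/-- The truncated reduced Hilbert polynomial of a module. -/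
def sl (τ : Tr d) (F : X.Modules) : EP := τ.ν (hp k L F)

variable (k L) in
/-- Semistability for `τ`. -/
structure SS (τ : Tr d) (F : X.Modules) : Prop where
  coh : Coh.IsCoh F
  ne : ¬ IsZero F
  pure : ShStab.IsPure X F d
  le : ∀ (G : X.Modules) (κ : G ⟶ F), Mono κ → Coh.IsCoh G → ¬ IsZero G → sl k L τ G ≤ sl k L τ F

lemma tame_of_pure {F : X.Modules} (hp : ShStab.IsPure X F d) (hc : Coh.IsCoh F) : Tame d F :=
  ⟨hc, dim_le_of_isPure hp hc⟩

lemma SS.tame {F : X.Modules} (h : SS k L τ F) : Tame d F := tame_of_pure h.pure h.coh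

lemma Tame.of_mono {F G : X.Modules} (hG : Tame d G) (hF : Coh.IsCoh F) (f : F ⟶ G) [Mono f] : Tame d F :=
  ⟨hF, dim_mono hF hG.coh f hG.dim⟩

lemma Tame.of_epi {F G : X.Modules} (hF : Tame d F) (hG : Coh.IsCoh G) (f : F ⟶ G) [Epi f] : Tame d G :=
  ⟨hG, dim_epi hF.coh hG f hF.dim⟩

lemma hp_spec (hL : CohB1.IsAmple L) {F : X.Modules} (hF : Tame d F) :
    ShStab.IsHilbPoly k X L F (hp k L F) := isHilbPoly_hp (k := k) hL hF.coh hF.dim

lemma hp_eq (hL : CohB1.IsAmple L) {F : X.Modules} (hF : Tame d F) {p : ℚ[X]}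
    (h : ShStab.IsHilbPoly k X L F p) : hp k L F = p := isHilbPoly_unique (hp_spec hL hF) h

lemma hp_natDegree (hL : CohB1.IsAmple L) {F : X.Modules} (hF : Tame d F) : (hp k L F).natDegree ≤ d :=
  (hilb_props hL.1 hF.coh hF.dim (hp_spec hL hF)).1

lemma hp_alpha_nonneg (hL : CohB1.IsAmple L) {F : X.Modules} (hF : Tame d F) : 0 ≤ alpha d (hp k L F) :=
  alpha_nonneg hL hF.coh hF.dim (hp_spec hL hF)

lemma hp_nonneg (hL : CohB1.IsAmple L) {F : X.Modules} (hF : Tame d F) : PolyLE 0 (hp k L F) :=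
  hilb_nonneg hL hF.coh hF.dim (hp_spec hL hF)

lemma hp_alpha_pos (hL : CohB1.IsAmple L) {F : X.Modules} (hc : Coh.IsCoh F) (hp' : ShStab.IsPure X F d)
    (h0 : ¬ IsZero F) : 0 < alpha d (hp k L F) :=
  alpha_pos hL hc (dim_of_isPure hp' hc h0) (hp_spec hL (tame_of_pure hp' hc))

lemma hp_alpha_eq_zero (hL : CohB1.IsAmple L) {F : X.Modules} (hF : Coh.IsCoh F)
    (hlt : topologicalKrullDim ↥(CohB1.support F) < (d : WithBot ℕ∞)) : alpha d (hp k L F) = 0 := by
  haveI : IsNoetherian X := CurveCohLib.isNoetherian_of_proper (k := k)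
  rw [(hilb_props hL.1 hF hlt.le (hp_spec hL ⟨hF, hlt.le⟩)).2]
  exact_mod_cast iterD_eq_zero d (additive_euler k) _ List.length_replicate
    (fun N hN => (List.eq_of_mem_replicate hN) ▸ hL.1) F hF hlt

lemma isZero_of_hp_eq_zero (hL : CohB1.IsAmple L) {F : X.Modules} (hF : Tame d F) (h : hp k L F = 0) :
    IsZero F := isZero_of_hilb_zero (k := k) hL hF.coh hF.dim (h ▸ hp_spec hL hF)

lemma hp_iso (hL : CohB1.IsAmple L) {F G : X.Modules} (hF : Tame d F) (e : F ≅ G) :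
    hp k L G = hp k L F := by
  have hG : Tame d G := hF.of_epi (isCoh_of_iso e hF.coh) e.hom
  exact hp_eq hL hG (hilb_iso e (hp_spec hL hF))

lemma sl_iso (hL : CohB1.IsAmple L) {F G : X.Modules} (hF : Tame d F) (e : F ≅ G) :
    sl k L τ G = sl k L τ F := by rw [sl, sl, hp_iso hL hF e]

lemma hp_add (hL : CohB1.IsAmple L) {S : ShortComplex X.Modules} (hS : S.ShortExact) (h₁ : Coh.IsCoh S.X₁)
    (h₂ : Tame d S.X₂) (h₃ : Coh.IsCoh S.X₃) :
    hp k L S.X₂ = hp k L S.X₁ + hp k L S.X₃ := by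
  haveI := hS.mono_f
  haveI := hS.epi_g
  exact hp_eq hL h₂ (hilb_add hL.1 hS h₁ h₂.coh h₃ (hp_spec hL (h₂.of_mono h₁ S.f))
    (hp_spec hL (h₂.of_epi h₃ S.g)))

lemma isPure_mono {F G : X.Modules} (hG : ShStab.IsPure X G d) (f : F ⟶ G) [Mono f] : ShStab.IsPure X F d :=
  fun W w hw hWc hW0 => by
    haveI := hw
    exact hG W (w ≫ f) (mono_comp _ _) hWc hW0

lemma isPure_isZero {F : X.Modules} (h : IsZero F) : ShStab.IsPure X F d := fun W w hw _ hW0 => by
  haveI := hw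
  refine absurd ?_ hW0
  rw [IsZero.iff_id_eq_zero, ← cancel_mono w]
  exact h.eq_of_tgt _ _

lemma SS.of_iso (hL : CohB1.IsAmple L) {F G : X.Modules} (h : SS k L τ F) (e : F ≅ G) : SS k L τ G where
  coh := isCoh_of_iso e h.coh
  ne := fun hz => h.ne (hz.of_iso e)
  pure := isPure_mono h.pure e.inv
  le := fun W w hw hWc hW0 => by
    haveI := hw
    rw [sl_iso hL h.tame e]
    exact h.le W (w ≫ e.inv) (mono_comp _ _) hWc hW0

/-- The image of a nonzero map out of a semistable module. -/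
lemma SS.le_image (hL : CohB1.IsAmple L) {F G : X.Modules} (hF : SS k L τ F) (hG : Coh.IsCoh G)
    (hGp : ShStab.IsPure X G d) {φ : F ⟶ G} (hφ : φ ≠ 0) :
    ∃ (I : X.Modules) (b : I ⟶ G), Mono b ∧ Coh.IsCoh I ∧ ¬ IsZero I ∧ sl k L τ F ≤ sl k L τ I := by
  obtain ⟨K, I, a, p, b, w, hfac, ha, hb, hp', hS, hKc, hIc⟩ := exists_factor (k := k) hF.coh hG φ
  haveI := ha; haveI := hb; haveI := hp'
  have hI0 : ¬ IsZero I := fun h => hφ (by rw [← hfac, h.eq_of_tgt p 0, Limits.zero_comp])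
  refine ⟨I, b, hb, hIc, hI0, ?_⟩
  have hsum := hp_add (k := k) hL hS hKc hF.tame hIc
  change hp k L F = hp k L K + hp k L I at hsum
  by_cases hK0 : IsZero K
  · have : hp k L K = 0 :=
      hp_eq hL (hF.tame.of_mono hKc a) (hilb_isZero hK0)
    rw [sl, sl, hsum, this, zero_add]
  · have hαK := hp_alpha_pos (k := k) hL hKc (isPure_mono hF.pure a) hK0
    have hαI := hp_alpha_pos (k := k) hL hIc (isPure_mono hGp b) hI0
    exact (τ.seesaw hαK hαI hsum).2.2 ((τ.seesaw hαK hαI hsum).1.1 (hF.le K a ha hKc hK0))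

lemma SS.hom_le (hL : CohB1.IsAmple L) {F G : X.Modules} (hF : SS k L τ F) (hG : SS k L τ G)
    {φ : F ⟶ G} (hφ : φ ≠ 0) : sl k L τ F ≤ sl k L τ G := by
  obtain ⟨I, b, hb, hIc, hI0, hle⟩ := hF.le_image hL hG.coh hG.pure hφ
  exact hle.trans (hG.le I b hb hIc hI0)

/-- An extension of pure modules is pure. -/
lemma isPure_ext {S : ShortComplex X.Modules} (hS : S.ShortExact) (h₂ : Tame d S.X₂) (h₃c : Coh.IsCoh S.X₃)
    (h₁ : ShStab.IsPure X S.X₁ d) (h₃ : ShStab.IsPure X S.X₃ d) (k : Type u) [Field k]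
    [X.Over (Spec (CommRingCat.of k))] [IsProper (X ↘ Spec (CommRingCat.of k))] :
    ShStab.IsPure X S.X₂ d := by
  intro W w hw hWc hW0
  haveI := hw
  haveI := hS.mono_f
  by_cases h : w ≫ S.g = 0
  · haveI : Mono (hS.exact.lift w h ≫ S.f) := by rw [hS.exact.lift_f]; infer_instance
    exact h₁ W (hS.exact.lift w h) (mono_of_mono _ S.f) hWc hW0
  · obtain ⟨K, I, a, p, b, w', hfac, ha, hb, hp', -, -, hIc⟩ := exists_factor (k := k) hWc h₃c (w ≫ S.g)
    haveI := hb; haveI := hp'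
    have hI0 : ¬ IsZero I := fun hz => h (by rw [← hfac, hz.eq_of_tgt p 0, Limits.zero_comp])
    exact le_antisymm (h₂.of_mono hWc w).dim
      ((h₃ I b hb hIc hI0).ge.trans
        (H23.TopDim.dim_le_dim_of_subset (QCoh.support_of_epi hWc.1 hIc.1 p)))

set_option maxHeartbeats 800000 in
/-- The maximal destabilising submodule for `τ`. -/
theorem exists_max (hL : CohB1.IsAmple L) {E : X.Modules} (hE : Coh.IsCoh E) (h0 : ¬ IsZero E)
    (hpE : ShStab.IsPure X E d) :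
    ∃ (W : X.Modules) (w : W ⟶ E), Mono w ∧ SS k L τ W ∧ ShStab.IsPure X (cokernel w) d ∧
      ∀ (G : X.Modules) (κ : G ⟶ E), Mono κ → Coh.IsCoh G → ¬ IsZero G →
        sl k L τ G ≤ sl k L τ W ∧ (sl k L τ G = sl k L τ W → ∃ φ : G ⟶ W, φ ≫ w = κ) := by
  classical
  haveI : IsNoetherian X := CurveCohLib.isNoetherian_of_proper (k := k)
  have hd := dim_le_of_isPure hpE hE
  have hTE : Tame d E := ⟨hE, hd⟩
  let Good : Subobject E → Prop := fun S => Coh.IsCoh (S : X.Modules) ∧ ¬ IsZero (S : X.Modules)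
  let p : Subobject E → ℚ[X] := fun S => hp k L (S : X.Modules)
  let v : Subobject E → EP := fun S => sl k L τ (S : X.Modules)
  have hT : ∀ S : Subobject E, Coh.IsCoh (S : X.Modules) → Tame d (S : X.Modules) := fun S hS =>
    hTE.of_mono hS S.arrow
  have hpos : ∀ S, Good S → 0 < alpha d (p S) := fun S hS =>
    hp_alpha_pos hL hS.1 (isPure_mono hpE S.arrow) hS.2
  have hGood_le : ∀ S T, Good S → S ≤ T → Coh.IsCoh (T : X.Modules) → Good T := fun S T hS h hT' =>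
    ⟨hT', fun hz => hS.2 ((IsZero.iff_id_eq_zero _).2 (by
      rw [← cancel_mono (Subobject.ofLE S T h)]; exact hz.eq_of_tgt _ _))⟩
  -- `≼`-maximal submodules above any given one, inside a given one
  have hup : ∀ S B, Good S → S ≤ B → ∃ T, Good T ∧ S ≤ T ∧ T ≤ B ∧ v S ≤ v T ∧
      ∀ U, Good U → T ≤ U → U ≤ B → v T ≤ v U → U = T := by
    intro S B hS hSB
    obtain ⟨T, ⟨hT, h1, h2, h3⟩, hmax⟩ := exists_maximal_coh hE
      (fun T => Good T ∧ S ≤ T ∧ T ≤ B ∧ v S ≤ v T) (fun _ h => h.1.1) ⟨S, hS, le_rfl, hSB, le_rfl⟩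
    exact ⟨T, hT, h1, h2, h3, fun U hU hTU hUB h4 => hmax U ⟨hU, h1.trans hTU, hUB, h3.trans h4⟩ hTU⟩
  let Max : Subobject E → Prop := fun T => Good T ∧ ∀ U, Good U → T ≤ U → v T ≤ v U → U = T
  have htop : Good (⊤ : Subobject E) := by
    have e : ((⊤ : Subobject E) : X.Modules) ≅ E := asIso (⊤ : Subobject E).arrow
    exact ⟨isCoh_of_iso e.symm hE, fun hz => h0 (hz.of_iso e.symm)⟩
  have hne : {n : ℕ | ∃ T, Max T ∧ (mult k L d (T : X.Modules)).toNat = n}.Nonempty := by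
    obtain ⟨T, hT, -, -, -, hmax⟩ := hup ⊤ ⊤ htop le_rfl
    exact ⟨_, T, ⟨hT, fun U hU h1 h2 => hmax U hU h1 le_top h2⟩, rfl⟩
  obtain ⟨F, hF, hFn⟩ := Nat.sInf_mem hne
  have hαint : ∀ S, Good S → alpha d (p S) = ((mult k L d (S : X.Modules)).toNat : ℚ) := fun S hS => by
    rw [(hilb_props hL.1 hS.1 (hT S hS.1).dim (hp_spec (k := k) hL (hT S hS.1))).2]
    exact_mod_cast (Int.toNat_of_nonneg
      (mult_nonneg_and_pos k hL d _ hS.1 (hT S hS.1).dim).1).symm
  have hmin : ∀ T, Max T → alpha d (p F) ≤ alpha d (p T) := fun T hT => by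
    rw [hαint F hF.1, hαint T hT.1]
    have := Nat.sInf_le (s := {n : ℕ | ∃ T, Max T ∧ (mult k L d (T : X.Modules)).toNat = n}) ⟨T, hT, rfl⟩
    rw [← hFn] at this
    exact_mod_cast this
  -- a submodule not inside `F` and not below it yields a worse one inside `F`
  have hA : ∀ G, Good G → ¬ G ≤ F → v F ≤ v G →
      ∃ K, Good K ∧ K ≤ F ∧ v G < v K ∧ ∀ W, W ≤ G → W ≤ F → W ≤ K := by
    intro G hG hGF hle
    obtain ⟨U, K, hFU, hGU, hKF, hKG, hinf, hUc, hKc, hsum⟩ :=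
      exists_sum_inter (k := k) hL hE hd hF.1.1 hG.1
    have hUne : U ≠ F := fun h => hGF (h ▸ hGU)
    have hUgood := hGood_le F U hF.1 hFU hUc
    have hlt : v U < v F := not_le.1 fun h => hUne (hF.2 U hUgood hFU h)
    change p U + p K = p F + p G at hsum
    have hαU : alpha d (p F) ≤ alpha d (p U) :=
      (mono_data (k := k) hL hE hd hF.1.1 hUc hFU).1
    have h3 : alpha d (p K) • v G < τ.raw (p K) :=
      τ.sum_inter (hpos U hUgood) (hpos F hF.1) (hpos G hG) hαU hsum hlt hle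
    have hKgood : Good K := ⟨hKc, fun hz => by
      have hK0 : p K = 0 := hp_eq hL (hT K hKc) (hilb_isZero hz)
      rw [hK0] at h3
      simp [Tr.raw, alpha] at h3⟩
    refine ⟨K, hKgood, hKF, ?_, fun W h1 h2 => hinf W h2 h1⟩
    rw [τ.raw_eq (hpos K hKgood).ne'] at h3
    exact (EP.smul_lt_smul_iff (hpos K hKgood)).1 h3
  -- the reduced polynomial of `F` is maximal
  have hB : ∀ G, Good G → v G ≤ v F := by
    intro G hG
    by_contra hn
    obtain ⟨K₀, hK₀, hK₀F, hK₀lt⟩ : ∃ K, Good K ∧ K ≤ F ∧ v F < v K := by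
      by_cases hGF : G ≤ F
      · exact ⟨G, hG, hGF, not_le.1 hn⟩
      · obtain ⟨K, hK, hKF, hlt, -⟩ := hA G hG hGF (not_le.1 hn).le
        exact ⟨K, hK, hKF, (not_le.1 hn).trans hlt⟩
    obtain ⟨G₁, hG₁, -, hG₁F, hle₁, hmax₁⟩ := hup K₀ F hK₀ hK₀F
    obtain ⟨G', hG', hG₁G', -, hle', hmax'⟩ := hup G₁ ⊤ hG₁ le_top
    have hFG' : v F < v G' := (hK₀lt.trans_le hle₁).trans_le hle'
    have hMax' : Max G' := ⟨hG', fun U hU h1 h2 => hmax' U hU h1 le_top h2⟩
    by_cases hG'F : G' ≤ F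
    · have heq : alpha d (p G') = alpha d (p F) :=
        le_antisymm (mono_data (k := k) hL hE hd hG'.1 hF.1.1 hG'F).1 (hmin G' hMax')
      obtain ⟨hC, hdC, hpC⟩ := cokernel_data (k := k) hL hG'.1 hF.1.1 (hT F hF.1.1).dim
        (Subobject.ofLE G' F hG'F) (hp_spec hL (hT G' hG'.1)) (hp_spec hL (hT F hF.1.1))
      refine hFG'.not_ge (τ.le_of_alpha_zero (hpos G' hG') (Q := p F - p G') ?_ ?_ ?_ (by abel))
      · simp only [alpha, coeff_sub] at heq ⊢; linarith
      · exact (hilb_props hL.1 hC hdC hpC).1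
      · exact hilb_nonneg hL hC hdC hpC
    · obtain ⟨K, hK, hKF, hlt, hinf⟩ := hA G' hG' hG'F hFG'.le
      have hlt₁ : v G₁ < v K := hle'.trans_lt hlt
      have := hmax₁ K hK (hinf G₁ hG₁G' hG₁F) hKF hlt₁.le
      exact (this ▸ hlt₁).ne rfl
  have hC : ∀ G, Good G → v G = v F → G ≤ F := by
    intro G hG he
    by_contra hn
    obtain ⟨K, hK, -, hlt, -⟩ := hA G hG hn he.ge
    exact (he ▸ hlt).not_ge (hB K hK)
  have hmk : ∀ (G : X.Modules) (κ : G ⟶ E) (_ : Mono κ), Coh.IsCoh G → ¬ IsZero G →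
      sl k L τ G ≤ v F ∧ (sl k L τ G = v F → ∃ φ : G ⟶ (F : X.Modules), φ ≫ F.arrow = κ) := by
    intro G κ hκ hGc hG0
    have hTG : Tame d G := hTE.of_mono hGc κ
    have he : v (Subobject.mk κ) = sl k L τ G := sl_iso hL hTG (Subobject.underlyingIso κ).symm
    have hgood : Good (Subobject.mk κ) :=
      ⟨isCoh_of_iso (Subobject.underlyingIso κ).symm hGc,
        fun hz => hG0 (hz.of_iso (Subobject.underlyingIso κ).symm)⟩
    refine ⟨he ▸ hB _ hgood, fun h => ?_⟩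
    exact ⟨(Subobject.underlyingIso κ).inv ≫ Subobject.ofLE _ _ (hC _ hgood (he.trans h)), by simp⟩
  refine ⟨(F : X.Modules), F.arrow, inferInstance,
    ⟨hF.1.1, hF.1.2, isPure_mono hpE F.arrow, fun G κ hκ hGc hG0 => by
      haveI := hκ
      exact (hmk G (κ ≫ F.arrow) (mono_comp _ _) hGc hG0).1⟩, ?_, hmk⟩
  intro Y y hy hYc hY0
  haveI := hy
  obtain ⟨hQ, hdQ, hpQ⟩ := cokernel_data (k := k) hL hF.1.1 hE hd F.arrow
    (hp_spec hL (hT F hF.1.1)) (hp_spec hL hTE)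
  have hTY : Tame d Y := (Tame.mk hQ hdQ).of_mono hYc y
  refine le_antisymm hTY.dim (le_of_not_gt fun hlt => hY0 ?_)
  obtain ⟨hR, hdR, hpR⟩ := cokernel_data (k := k) hL hYc hQ hdQ y (hp_spec hL hTY) hpQ
  let π : E ⟶ cokernel y := cokernel.π F.arrow ≫ cokernel.π y
  haveI : Epi π := epi_comp _ _
  obtain ⟨hK, hdK, hpK⟩ := kernel_data (k := k) hL hE hR hd π (hp_spec hL hTE) hpR
  let l : (F : X.Modules) ⟶ kernel π := kernel.lift π F.arrow (by simp [π])
  haveI : Mono (l ≫ kernel.ι π) := by rw [kernel.lift_ι]; infer_instance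
  haveI : Mono l := mono_of_mono l (kernel.ι π)
  have hK0 : ¬ IsZero (kernel π) := fun hz => hF.1.2 (by
    rw [IsZero.iff_id_eq_zero, ← cancel_mono l]; exact hz.eq_of_tgt _ _)
  have hpK' : hp k L (kernel π) = p F + hp k L Y := by
    rw [hp_eq hL ⟨hK, hdK⟩ hpK]
    show _ = hp k L (F : X.Modules) + hp k L Y
    abel
  have hle : v F ≤ sl k L τ (kernel π) := τ.le_of_alpha_zero (hpos F hF.1)
    (hp_alpha_eq_zero hL hYc hlt) (hp_natDegree hL hTY) (hp_nonneg hL hTY) hpK'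
  obtain ⟨φ, hφ⟩ := (hmk _ (kernel.ι π) inferInstance hK hK0).2
    (le_antisymm (hmk _ (kernel.ι π) inferInstance hK hK0).1 hle)
  have h1 : φ ≫ l = 𝟙 _ := by rw [← cancel_mono (kernel.ι π), Category.assoc, kernel.lift_ι, hφ, Category.id_comp]
  have h2 : l ≫ φ = 𝟙 _ := by rw [← cancel_mono F.arrow, Category.assoc, hφ, kernel.lift_ι, Category.id_comp]
  have := hp_iso (k := k) hL (hT F hF.1.1) ⟨l, φ, h2, h1⟩
  rw [hpK'] at this
  exact isZero_of_hp_eq_zero hL hTY (add_eq_left.1 this)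

end Groth.Agent.ShStabLib
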